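import Cfsg.Agent.Lib.Grp.GTwoSylow.Frame

/-!
Producing a frame from two commuting square roots of a central involution and a suitable element.
-/

set_option autoImplicit false

namespace Cfsg.Agent.Grp.GTwoSylow

variable {G : Type*} [Group G]

/-- Data `x, wa, wb, z` from which a frame is built. -/
structure Seed (G : Type*) [Group G] where
  k : ℕ
  hk : 2 ≤ k
  x : G
  wa : G
  wb : G
  z : G
  z_ne : z ≠ 1
  zz : z * z = 1
  aa : wa * wa = z
  bb : wb * wb = z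
  ab : wa * wb = wb * wa
  zx : z * x = x * z
  xN : x ^ 2 ^ k = 1
  comm : wa * x * wa⁻¹ * x = x * (wa * x * wa⁻¹)
  half : (x * (wa * x * wa⁻¹)) ^ 2 ^ (k - 1) = z
  inv : wa * wb * x * (wa * wb)⁻¹ = x⁻¹

namespace Seed

variable (d : Seed G)

/-- The second generator of the abelian part. -/
def y : G := d.wa * d.x * d.wa⁻¹

theorem two_mul_half : 2 * 2 ^ (d.k - 1) = 2 ^ d.k := by
  rw [← pow_succ']; congr 1; have := d.hk; omega

theorem yN : d.y ^ 2 ^ d.k = 1 := by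
  rw [y, conj_pow, d.xN, mul_one, mul_inv_cancel]

theorem xy : Commute d.x d.y := d.comm.symm

theorem xh_yh : d.x ^ 2 ^ (d.k - 1) * d.y ^ 2 ^ (d.k - 1) = d.z := by
  rw [← d.xy.mul_pow]; exact d.half

theorem xh_sq : d.x ^ 2 ^ (d.k - 1) * d.x ^ 2 ^ (d.k - 1) = 1 := by
  rw [← pow_add, ← two_mul, d.two_mul_half, d.xN]

theorem yh_eq : d.y ^ 2 ^ (d.k - 1) = d.wa * d.x ^ 2 ^ (d.k - 1) * d.wa⁻¹ := by rw [y, conj_pow]

theorem xh_ne : d.x ^ 2 ^ (d.k - 1) ≠ 1 := fun h => by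
  have := d.xh_yh
  rw [yh_eq, h, mul_one, mul_inv_cancel, one_mul] at this
  exact d.z_ne this.symm

theorem yh_ne : d.y ^ 2 ^ (d.k - 1) ≠ 1 := fun h => by
  rw [yh_eq, conj_eq_one_iff] at h
  exact d.xh_ne h

theorem pow_parity {g : G} {h : ℕ} (hg : g ^ h * g ^ h = 1) (a : ℕ) :
    g ^ (h * a) = if a % 2 = 0 then 1 else g ^ h := by
  rw [pow_mul, ← Nat.mod_add_div a 2, pow_add, pow_mul (g ^ h) 2, pow_two, hg, one_pow, mul_one,
    Nat.mod_add_div]
  rcases Nat.mod_two_eq_zero_or_one a with e | e <;> rw [e] <;> simp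

theorem indep (a b : ℕ) (h : d.x ^ a * d.y ^ b = 1) : 2 ^ d.k ∣ a ∧ 2 ^ d.k ∣ b := by
  suffices ∀ j ≤ d.k, 2 ^ j ∣ a ∧ 2 ^ j ∣ b from this d.k le_rfl
  intro j
  induction j with
  | zero => simp
  | succ j ih =>
    intro hj
    obtain ⟨⟨a', rfl⟩, ⟨b', rfl⟩⟩ := ih (by omega)
    have hpow : 2 ^ j * 2 ^ (d.k - 1 - j) = 2 ^ (d.k - 1) := by
      rw [← pow_add]; congr 1; omega
    have h1 := congrArg (· ^ 2 ^ (d.k - 1 - j)) h
    simp only [(d.xy.pow_pow _ _).mul_pow, one_pow, ← pow_mul] at h1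
    rw [mul_right_comm (2 ^ j), hpow, mul_right_comm (2 ^ j), hpow, pow_parity d.xh_sq,
      pow_parity (show d.y ^ 2 ^ (d.k - 1) * d.y ^ 2 ^ (d.k - 1) = 1 by
        rw [← pow_add, ← two_mul, d.two_mul_half, d.yN])] at h1
    rw [pow_succ]
    rcases Nat.mod_two_eq_zero_or_one a' with ea | ea <;>
      rcases Nat.mod_two_eq_zero_or_one b' with eb | eb <;>
      simp [ea, eb] at h1
    · exact ⟨mul_dvd_mul_left _ (by omega), mul_dvd_mul_left _ (by omega)⟩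
    · exact absurd h1 d.yh_ne
    · exact absurd h1 d.xh_ne
    · rw [d.xh_yh] at h1; exact absurd h1 d.z_ne

theorem wa_inv : d.wa⁻¹ = d.z * d.wa :=
  inv_eq_of_mul_eq_one_left (by rw [mul_assoc, d.aa, d.zz])

theorem z_wa : d.z * d.wa = d.wa * d.z := by rw [← d.aa, mul_assoc]

theorem ii : d.wa * d.wb * (d.wa * d.wb) = 1 := by
  rw [show d.wa * d.wb * (d.wa * d.wb) = d.wa * (d.wb * d.wa) * d.wb by group, ← d.ab,
    show d.wa * (d.wa * d.wb) * d.wb = d.wa * d.wa * (d.wb * d.wb) by group, d.aa, d.bb, d.zz]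

theorem i_wa : d.wa * d.wb * d.wa = d.wa * (d.wa * d.wb) := by rw [mul_assoc, ← d.ab]

theorem ix : d.wa * d.wb * d.x = d.x⁻¹ * (d.wa * d.wb) := mul_inv_eq_iff_eq_mul.1 d.inv

theorem i_xh : d.wa * d.wb * d.x ^ 2 ^ (d.k - 1) = d.x ^ 2 ^ (d.k - 1) * (d.wa * d.wb) := by
  have h := (SemiconjBy.pow_right (show SemiconjBy (d.wa * d.wb) d.x d.x⁻¹ from d.ix)
    (2 ^ (d.k - 1))).eq
  rwa [inv_pow, inv_eq_of_mul_eq_one_right d.xh_sq] at h

/-- The relations. -/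
def rel : Rel G where
  k := d.k
  hk := d.hk
  x := d.x
  y := d.y
  i := d.wa * d.wb
  s := d.x ^ 2 ^ (d.k - 1) * d.wa
  xN := d.xN
  yN := d.yN
  xy := d.xy.eq
  ii := d.ii
  ss := by
    rw [show d.x ^ 2 ^ (d.k - 1) * d.wa * (d.x ^ 2 ^ (d.k - 1) * d.wa) =
      d.x ^ 2 ^ (d.k - 1) * (d.wa * d.x ^ 2 ^ (d.k - 1) * d.wa⁻¹) * (d.wa * d.wa) by group,
      ← yh_eq, d.xh_yh, d.aa, d.zz]
  si := by
    rw [← mul_assoc (d.wa * d.wb), d.i_xh, mul_assoc (d.x ^ _) (d.wa * d.wb), d.i_wa,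
      mul_assoc (d.x ^ _)]
  ix := d.ix
  iy := by
    have h : d.wa * d.wb * d.y * (d.wa * d.wb)⁻¹ = d.y⁻¹ := by
      calc d.wa * d.wb * d.y * (d.wa * d.wb)⁻¹
          = d.wa * d.wb * d.wa * d.x * (d.wa * d.wb * d.wa)⁻¹ := by rw [y]; group
        _ = d.wa * (d.wa * d.wb * d.x * (d.wa * d.wb)⁻¹) * d.wa⁻¹ := by rw [i_wa]; group
        _ = d.y⁻¹ := by rw [d.inv, y]; group
    exact mul_inv_eq_iff_eq_mul.1 h
  sx := by
    rw [show d.x ^ 2 ^ (d.k - 1) * d.wa * d.x = d.x ^ 2 ^ (d.k - 1) * d.y * d.wa by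
      rw [y]; group, (d.xy.pow_left _).eq, mul_assoc]
  sy := by
    calc d.x ^ 2 ^ (d.k - 1) * d.wa * d.y
        = d.x ^ 2 ^ (d.k - 1) * (d.wa * d.wa) * d.x * d.wa⁻¹ := by rw [y]; group
      _ = d.x ^ 2 ^ (d.k - 1) * (d.x * d.z) * (d.z * d.wa) := by
          rw [d.aa, mul_assoc (d.x ^ _), d.zx, d.wa_inv]
      _ = d.x ^ 2 ^ (d.k - 1) * d.x * (d.z * d.z) * d.wa := by group
      _ = d.x * (d.x ^ 2 ^ (d.k - 1) * d.wa) := by
          rw [d.zz, mul_one, ← pow_succ, pow_succ', mul_assoc]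
  indep := d.indep

end Seed

namespace Rel

variable (e : Rel G) [Finite G]

/-- The subgroup of normal forms. -/
def sub : Subgroup G :=
  subgroupOfIdempotent (Set.range fun v : (ZMod e.N × ZMod e.N) × (Bool × Bool) =>
      e.nf v.1.1 v.1.2 v.2) ⟨1, ⟨((0, 0), (false, false)), by simp [nf, pt_zero]⟩⟩ <| by
    refine Set.Subset.antisymm ?_ fun g hg => ⟨1, ⟨((0, 0), (false, false)),
      by simp [nf, pt_zero]⟩, g, hg, one_mul g⟩
    rintro _ ⟨_, ⟨u, rfl⟩, _, ⟨v, rfl⟩, rfl⟩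
    obtain ⟨a, b, h⟩ := e.nf_mul u.1.1 u.1.2 v.1.1 v.1.2 u.2 v.2
    exact ⟨((a, b), _), h.symm⟩

theorem nf_mem (a b : ZMod e.N) (p : Bool × Bool) : e.nf a b p ∈ e.sub := ⟨((a, b), p), rfl⟩

theorem card_sub : Nat.card e.sub = 4 * (2 ^ e.k) ^ 2 := by
  have h : Nat.card e.sub = Nat.card ((ZMod e.N × ZMod e.N) × (Bool × Bool)) :=
    Nat.card_congr (Equiv.ofInjective _ e.nf_inj).symm
  rw [h]
  simp [Nat.card_zmod, N]
  ring

theorem pow_mem_sub : e.x ∈ e.sub ∧ e.y ∈ e.sub ∧ e.i ∈ e.sub ∧ e.s ∈ e.sub := by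
  haveI : Fact (1 < e.N) := ⟨Nat.one_lt_pow (by have := e.hk; omega) (by norm_num)⟩
  refine ⟨?_, ?_, ?_, ?_⟩
  · simpa [nf, pt, ZMod.val_one] using e.nf_mem 1 0 (false, false)
  · simpa [nf, pt, ZMod.val_one] using e.nf_mem 0 1 (false, false)
  · simpa [nf, pt] using e.nf_mem 0 0 (true, false)
  · simpa [nf, pt] using e.nf_mem 0 0 (false, true)

/-- The frame of the subgroup of normal forms. -/
def frame : Frame ↥e.sub where
  k := e.k
  hk := e.hk
  x := ⟨e.x, e.pow_mem_sub.1⟩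
  y := ⟨e.y, e.pow_mem_sub.2.1⟩
  i := ⟨e.i, e.pow_mem_sub.2.2.1⟩
  s := ⟨e.s, e.pow_mem_sub.2.2.2⟩
  xN := Subtype.ext e.xN
  yN := Subtype.ext e.yN
  xy := Subtype.ext e.xy
  ii := Subtype.ext e.ii
  ss := Subtype.ext e.ss
  si := Subtype.ext e.si
  ix := Subtype.ext e.ix
  iy := Subtype.ext e.iy
  sx := Subtype.ext e.sx
  sy := Subtype.ext e.sy
  indep a b h := e.indep a b (congrArg Subtype.val h)
  card := e.card_sub

end Rel

namespace Frame

variable {S T : Type*} [Group S] [Group T]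

/-- Transport of a frame along an isomorphism. -/
def map (e : Frame S) (f : S ≃* T) : Frame T where
  k := e.k
  hk := e.hk
  x := f e.x
  y := f e.y
  i := f e.i
  s := f e.s
  xN := by rw [← map_pow, e.xN, map_one]
  yN := by rw [← map_pow, e.yN, map_one]
  xy := by rw [← map_mul, e.xy, map_mul]
  ii := by rw [← map_mul, e.ii, map_one]
  ss := by rw [← map_mul, e.ss, map_one]
  si := by rw [← map_mul, e.si, map_mul]
  ix := by rw [← map_mul, e.ix, map_mul, map_inv]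
  iy := by rw [← map_mul, e.iy, map_mul, map_inv]
  sx := by rw [← map_mul, e.sx, map_mul]
  sy := by rw [← map_mul, e.sy, map_mul]
  indep a b h := e.indep a b (f.injective (by rw [map_one, map_mul, map_pow, map_pow, h]))
  card := by rw [← Nat.card_congr f.toEquiv, e.card]

/-- A Sylow 2-subgroup of a group with relations and the right 2-part of the order carries a
frame. -/
theorem nonempty_sylow {G : Type*} [Group G] [Finite G] (e : Rel G)
    (hcard : (Nat.card G).factorization 2 = 2 * e.k + 2) (P : Sylow 2 G) :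
    Nonempty (Frame ↥(P : Subgroup G)) := by
  have h : Nat.card e.sub = 2 ^ (Nat.card G).factorization 2 := by
    rw [e.card_sub, hcard, pow_add, pow_mul']; ring
  have f : ↥e.sub ≃* ↥(P : Subgroup G) := (Sylow.ofCard e.sub h).equiv P
  exact ⟨(e.frame).map f⟩

end Frame

end Cfsg.Agent.Grp.GTwoSylow
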