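import Cfsg.Agent.Lib.Grp.GTwoSylow.Frame
import Cfsg.Agent.Lib.Invol.Transfer2
import Cfsg.Agent.Lib.Invol.ZStar

/-!
Fusion of involutions in a simple group with Sylow 2-subgroup `(C_N × C_N) ⋊ V₄`: one class, or
`N = 4` and two classes.
-/

set_option autoImplicit false

namespace Cfsg.Agent.Grp.GTwoSylow

open Subgroup

variable {G : Type*} [Group G] [Finite G] [IsSimpleGroup G] {S : Sylow 2 G}
  (e : Frame ↥(S : Subgroup G))

omit [Finite G] [IsSimpleGroup G] in
theorem not_comm (e : Frame ↥(S : Subgroup G)) : ∃ a b : G, a * b ≠ b * a := by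
  refine ⟨(e.s : G), (e.x : G), fun h => ?_⟩
  rw [← Subgroup.coe_mul, ← Subgroup.coe_mul, SetLike.coe_eq_coe, e.sx] at h
  obtain ⟨c, hc⟩ : ∃ c, c = e.s := ⟨_, rfl⟩
  have h1 : e.pt 0 1 * e.s = e.pt 1 0 * e.s := by
    haveI : Fact (1 < e.N) := ⟨Nat.one_lt_pow (by have := e.hk; omega) (by norm_num)⟩
    simpa [Rel.pt, ZMod.val_one] using h
  rw [mul_left_inj, e.pt_inj] at h1
  haveI : Fact (1 < e.N) := ⟨Nat.one_lt_pow (by have := e.hk; omega) (by norm_num)⟩
  exact zero_ne_one h1.1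

omit [Finite G] [IsSimpleGroup G] in
/-- Conjugation inside `S`. -/
theorem isConj_of_eq {a b : ↥(S : Subgroup G)} {h : ↥(S : Subgroup G)} (hh : h * a * h⁻¹ = b) :
    IsConj (a : G) (b : G) :=
  isConj_iff.2 ⟨(h : G), by rw [← hh]; rfl⟩

include e

/-- Transfer: an involution outside the kernel of a character of `S` fuses into the kernel,
carrying its centralizer along. -/
theorem transfer_conj (φ : ↥(S : Subgroup G) →* Multiplicative (ZMod 2)) {u : ↥(S : Subgroup G)}
    (hu : u * u = 1) (hφ : φ u ≠ 1) :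
    ∃ (x : G) (v : ↥(S : Subgroup G)), (v : G) = x⁻¹ * u * x ∧ φ v = 1 ∧
      ∀ c : ↥(S : Subgroup G), c * u = u * c → x⁻¹ * c * x ∈ (S : Subgroup G) := by
  have huG : (u : G) * u = 1 := by rw [← Subgroup.coe_mul, hu, Subgroup.coe_one]
  have htr : MonoidHom.transfer φ (u : G) = 1 := by
    rcases IsSimpleGroup.eq_bot_or_eq_top_of_normal (MonoidHom.transfer φ).ker inferInstance with
      h | h
    · obtain ⟨a, b, hab⟩ := not_comm e
      exact absurd ((MonoidHom.ker_eq_bot_iff _).1 h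
        (by rw [map_mul, map_mul, mul_comm])) hab
    · exact MonoidHom.mem_ker.1 (h ▸ Subgroup.mem_top (u : G))
  have hev := Invol.even_card_of_transfer_eq_one φ huG htr
    (ι := Multiplicative.ofAdd (1 : ZMod 2)) (orderOf_eq_prime (by decide) (by decide))
    (fun a ha => by
      have : a ≠ 1 := fun h => by rw [h, orderOf_one] at ha; omega
      revert this; clear ha; revert a; decide)
  let R : Subgroup G := (S : Subgroup G) ⊓ centralizer {(u : G)}
  have hR : IsPGroup 2 R := S.isPGroup'.to_le inf_le_left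
  let P : G ⧸ (S : Subgroup G) → Prop := fun q => ∃ x : G, QuotientGroup.mk x = q ∧
    ∃ h : x⁻¹ * u * x ∈ (S : Subgroup G), φ ⟨_, h⟩ ≠ 1
  have hP : ∀ r ∈ R, ∀ q, P q → P (r • q) := by
    rintro r ⟨-, hr⟩ _ ⟨x, rfl, h, hne⟩
    have hr' : (u : G) * r = r * u := mem_centralizer_singleton_iff.1 hr |>.symm
    have heq : (r * x)⁻¹ * (u : G) * (r * x) = x⁻¹ * u * x := by
      calc (r * x)⁻¹ * (u : G) * (r * x) = x⁻¹ * r⁻¹ * ((u : G) * r) * x := by group
        _ = x⁻¹ * r⁻¹ * (r * (u : G)) * x := by rw [hr']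
        _ = x⁻¹ * u * x := by group
    exact ⟨r * x, (MulAction.Quotient.smul_mk _ r x).symm, heq ▸ h, by simpa only [heq] using hne⟩
  have h1 := Invol.card_invariant_modEq hR P hP
  have h2 := Invol.card_invariant_modEq hR (fun _ : G ⧸ (S : Subgroup G) => True)
    (fun _ _ _ _ => trivial)
  obtain ⟨q, hq, hqP⟩ : ∃ q : G ⧸ (S : Subgroup G), (∀ r ∈ R, r • q = q) ∧ ¬ P q := by
    by_contra hall
    push_neg at hall
    have he : Nat.card {q // P q ∧ ∀ r ∈ R, r • q = q} =
        Nat.card {q : G ⧸ (S : Subgroup G) // True ∧ ∀ r ∈ R, r • q = q} :=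
      Nat.card_congr (Equiv.subtypeEquivRight fun q =>
        ⟨fun h => ⟨trivial, h.2⟩, fun h => ⟨hall q h.2, h.2⟩⟩)
    have hodd : ¬ 2 ∣ Nat.card (G ⧸ (S : Subgroup G)) := by
      rw [← Subgroup.index_eq_card]; exact S.not_dvd_index
    rw [Nat.card_congr (Equiv.subtypeUnivEquiv fun _ : G ⧸ (S : Subgroup G) => trivial)] at h2
    rw [he] at h1
    have h3 : Nat.card {q // P q} ≡ Nat.card (G ⧸ (S : Subgroup G)) [MOD 2] := h1.trans h2.symm
    exact hodd ((h3.dvd_iff dvd_rfl).1 (even_iff_two_dvd.1 hev))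
  obtain ⟨x, rfl⟩ := QuotientGroup.mk_surjective q
  have huR : (u : G) ∈ R := ⟨u.2, mem_centralizer_singleton_iff.2 rfl⟩
  have hmem : x⁻¹ * u * x ∈ (S : Subgroup G) := Invol.smul_mk_eq_iff.1 (hq _ huR)
  refine ⟨x, ⟨_, hmem⟩, rfl, ?_, fun c hc => Invol.smul_mk_eq_iff.1 (hq _ ⟨c.2, ?_⟩)⟩
  · by_contra h
    exact hqP ⟨x, rfl, hmem, h⟩
  · exact mem_centralizer_singleton_iff.2 (congrArg Subtype.val hc)

omit [IsSimpleGroup G] in
/-- A conjugate of the central involution carries its centralizer into `S`. -/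
theorem conj_cent {r : ↥(S : Subgroup G)} (h : IsConj (r : G) (e.z : G)) :
    ∃ g : G, g * r * g⁻¹ = e.z ∧
      ∀ c : ↥(S : Subgroup G), c * r = r * c → g * c * g⁻¹ ∈ (S : Subgroup G) := by
  obtain ⟨g, hg⟩ := isConj_iff.1 h
  set C := centralizer {(e.z : G)}
  have hSC : (S : Subgroup G) ≤ C := fun y hy =>
    mem_centralizer_singleton_iff.2 (congrArg Subtype.val (e.z_central ⟨y, hy⟩))
  let R : Subgroup G := ((S : Subgroup G) ⊓ centralizer {(r : G)}).map (MulAut.conj g).toMonoidHom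
  have hR : IsPGroup 2 R := (S.isPGroup'.to_le inf_le_left).map _
  have hRC : R ≤ C := by
    rintro _ ⟨c, ⟨-, hc⟩, rfl⟩
    have hc' : c * (r : G) = r * c := mem_centralizer_singleton_iff.1 hc
    rw [mem_centralizer_singleton_iff, ← hg]
    show g * c * g⁻¹ * (g * r * g⁻¹) = g * r * g⁻¹ * (g * c * g⁻¹)
    calc g * c * g⁻¹ * (g * r * g⁻¹) = g * (c * (r : G)) * g⁻¹ := by group
      _ = g * ((r : G) * c) * g⁻¹ := by rw [hc']
      _ = _ := by group
  obtain ⟨⟨h, hhC⟩, hh⟩ := Invol.exists_conj_subset_sylow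
    (hR.comap_of_injective C.subtype C.subtype_injective) (S.subtype hSC)
  have hh' : h * (e.z : G) = e.z * h := mem_centralizer_singleton_iff.1 hhC
  refine ⟨h * g, ?_, fun c hc => ?_⟩
  · calc h * g * r * (h * g)⁻¹ = h * (g * r * g⁻¹) * h⁻¹ := by group
      _ = h * (e.z : G) * h⁻¹ := by rw [hg]
      _ = e.z := by rw [hh']; group
  · have hm : g * c * g⁻¹ ∈ R :=
      ⟨c, ⟨c.2, mem_centralizer_singleton_iff.2 (congrArg Subtype.val hc)⟩, rfl⟩
    have := hh ⟨g * c * g⁻¹, hRC hm⟩ hm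
    rw [show h * g * c * (h * g)⁻¹ = h * (g * c * g⁻¹) * h⁻¹ by group]
    exact this

omit [IsSimpleGroup G] in
/-- An involution `r ≠ z` with a square root of `z` in its centralizer is not conjugate to `z`,
unless `z` is conjugate to `t`. -/
theorem not_conj_of_sqrt (ht : ¬ IsConj (e.t : G) (e.z : G)) {r w : ↥(S : Subgroup G)}
    (hr : r ≠ e.z) (hwr : w * r = r * w) (hw : w * w = e.z) : ¬ IsConj (r : G) (e.z : G) := by
  intro h
  obtain ⟨g, hg, hgC⟩ := conj_cent e h
  obtain ⟨a, b, hab⟩ := e.sq_mem ⟨_, hgC w hwr⟩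
  have hval : (e.pt a b : G) = g * e.z * g⁻¹ := by
    rw [← hab, ← hw, Subgroup.coe_mul, Subgroup.coe_mul]; group
  have hconj : IsConj (e.z : G) (e.pt a b : G) := isConj_iff.2 ⟨g, hval.symm⟩
  have hz2 : e.z * e.z = 1 := by rw [Rel.z, e.pt_mul, e.m_add_m, e.pt_zero]
  have hp2 : e.pt a b * e.pt a b = 1 := by
    apply Subtype.ext
    rw [Subgroup.coe_mul, hval, Subgroup.coe_one]
    calc g * (e.z : G) * g⁻¹ * (g * e.z * g⁻¹) = g * ((e.z * e.z : ↥(S : Subgroup G)) : G) * g⁻¹ := by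
          rw [Subgroup.coe_mul]; group
      _ = 1 := by rw [hz2, Subgroup.coe_one]; group
  rw [e.pt_mul, e.pt_eq_one_iff, e.two_eq_zero_iff, e.two_eq_zero_iff] at hp2
  obtain ⟨rfl | rfl, rfl | rfl⟩ := hp2
  · rw [e.pt_zero, Subgroup.coe_one, eq_comm, conj_eq_one_iff, OneMemClass.coe_eq_one] at hval
    exact e.z_ne_one hval
  · refine ht ?_
    refine (isConj_iff.2 ⟨(e.s : G), ?_⟩ : IsConj (e.t : G) (e.pt 0 e.m : G)).trans hconj.symm
    rw [← Subgroup.coe_inv, ← Subgroup.coe_mul, ← Subgroup.coe_mul, SetLike.coe_eq_coe, Rel.t,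
      e.s_pt, mul_inv_cancel_right]
  · exact ht hconj.symm
  · refine hr (Subtype.ext ?_)
    have h1 : g * (e.z : G) * g⁻¹ = g * r * g⁻¹ := by rw [hg]; exact hval.symm
    simpa using h1.symm

omit [IsSimpleGroup G] in
theorem m_add_one_conj :
    ∀ p q : ZMod e.N, (p = 0 ∨ p = e.m) → (q = 0 ∨ q = e.m) →
      IsConj ((e.pt 1 0 * e.i : ↥(S : Subgroup G)) : G)
        ((e.pt (1 + p) q * e.i : ↥(S : Subgroup G)) : G) := by
  have hm : ∃ c : ZMod e.N, c + c = e.m := by
    refine ⟨((2 ^ (e.k - 2) : ℕ) : ZMod e.N), ?_⟩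
    rw [Rel.m, ← Nat.cast_add, ← two_mul, ← pow_succ']
    congr 2
    have := e.hk; omega
  intro p q hp hq
  obtain ⟨c, rfl⟩ : ∃ c, c + c = p := by
    rcases hp with rfl | rfl
    · exact ⟨0, add_zero 0⟩
    · exact hm
  obtain ⟨d, rfl⟩ : ∃ d, d + d = q := by
    rcases hq with rfl | rfl
    · exact ⟨0, add_zero 0⟩
    · exact hm
  exact isConj_of_eq (h := e.pt c d) (by rw [e.conj_i, zero_add])

omit [IsSimpleGroup G] in
/-- The centralizer of `pt 1 0 * i`. -/
theorem cent_q {c : ↥(S : Subgroup G)}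
    (hc : c * (e.pt 1 0 * e.i) = e.pt 1 0 * e.i * c) :
    ∃ p q : ZMod e.N, (p = 0 ∨ p = e.m) ∧ (q = 0 ∨ q = e.m) ∧
      (c = e.pt p q ∨ c = e.pt (1 + p) q * e.i) := by
  obtain ⟨a, b, rfl | rfl | rfl | rfl⟩ := e.cases4 c
  · rw [e.pt_mul', mul_assoc, e.i_pt, e.pt_mul', mul_left_inj, e.pt_inj] at hc
    obtain ⟨h1, h2⟩ := hc
    refine ⟨a, b, e.two_eq_zero_iff.1 ?_, e.two_eq_zero_iff.1 ?_, Or.inl rfl⟩
    · linear_combination h1
    · linear_combination h2
  · rw [mul_assoc, e.i_pt', e.pt_mul', mul_assoc, e.i_pt', e.pt_mul', mul_left_inj, e.pt_inj] at hc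
    obtain ⟨h1, h2⟩ := hc
    refine ⟨a - 1, b, e.two_eq_zero_iff.1 ?_, e.two_eq_zero_iff.1 ?_, Or.inr ?_⟩
    · linear_combination h1
    · linear_combination h2
    · rw [add_sub_cancel]
  · exfalso
    rw [mul_assoc, e.s_pt', e.pt_mul', mul_assoc, e.i_pt', e.pt_mul', e.si, mul_left_inj,
      e.pt_inj] at hc
    refine e.add_self_ne_one a ?_
    linear_combination hc.1
  · exfalso
    rw [mul_assoc, mul_assoc, e.s_pt', e.i_pt', e.pt_mul', e.si, mul_assoc, e.i_pt', e.pt_mul',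
      mul_left_inj, e.pt_inj] at hc
    refine e.add_self_ne_one a ?_
    linear_combination hc.1

omit [IsSimpleGroup G] in
theorem sqrt_z {r : ↥(S : Subgroup G)}
    (hr : r = e.s ∨ r = e.i * e.s ∨ r = e.i ∨ r = e.pt 1 1 * e.i) :
    ∃ w, w * r = r * w ∧ w * w = e.z := by
  have hm : ∃ c : ZMod e.N, c + c = e.m := by
    refine ⟨((2 ^ (e.k - 2) : ℕ) : ZMod e.N), ?_⟩
    rw [Rel.m, ← Nat.cast_add, ← two_mul, ← pow_succ']
    congr 2
    have := e.hk; omega
  obtain ⟨h, hh⟩ := hm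
  have hnm : -e.m = e.m := neg_eq_of_add_eq_zero_left e.m_add_m
  rcases hr with rfl | rfl | rfl | rfl
  · exact ⟨e.pt h h, by rw [e.s_pt], by rw [e.pt_mul, hh, Rel.z]⟩
  · exact ⟨e.pt h (-h), by rw [mul_assoc, e.s_pt, e.i_pt', neg_neg],
      by rw [e.pt_mul, ← neg_add, hh, hnm, Rel.z]⟩
  · refine ⟨e.pt e.m 0 * e.s, ?_, ?_⟩
    · rw [mul_assoc, e.si, e.i_pt', hnm, neg_zero]
    · rw [mul_assoc, e.s_pt', e.ss, mul_one, e.pt_mul, add_zero, zero_add, Rel.z]
  · refine ⟨e.pt e.m 0 * e.s, ?_, ?_⟩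
    · rw [mul_assoc, e.s_pt', e.pt_mul', e.si, mul_assoc, e.i_pt', e.pt_mul', hnm, neg_zero,
        add_comm e.m, add_comm (0 : ZMod e.N)]
    · rw [mul_assoc, e.s_pt', e.ss, mul_one, e.pt_mul, add_zero, zero_add, Rel.z]

/-- The central involution fuses to a non-central involution of the abelian part. -/
theorem z_conj_t : IsConj (e.t : G) (e.z : G) := by
  by_contra ht
  set q := e.pt 1 0 * e.i with hq
  have ht' : ¬ IsConj (e.pt 0 e.m : G) (e.z : G) := fun h => ht <| by
    refine (isConj_of_eq (h := e.s) ?_).trans h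
    rw [Rel.t, e.s_pt, mul_inv_cancel_right]
  -- conjugates of `z` in `S` other than `z` are conjugate in `S` to `q`
  have key : ∀ a : ↥(S : Subgroup G), IsConj (a : G) (e.z : G) → a ≠ e.z →
      ∃ h : ↥(S : Subgroup G), h * a * h⁻¹ = q := by
    intro a ha hne
    have ha2 : a * a = 1 ∧ a ≠ 1 := by
      have hz : e.z * e.z = 1 := by rw [Rel.z, e.pt_mul, e.m_add_m, e.pt_zero]
      obtain ⟨g, hg⟩ := isConj_iff.1 ha.symm
      refine ⟨Subtype.ext ?_, fun h => ?_⟩
      · rw [Subgroup.coe_mul, ← hg, Subgroup.coe_one]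
        calc g * (e.z : G) * g⁻¹ * (g * e.z * g⁻¹) =
            g * ((e.z * e.z : ↥(S : Subgroup G)) : G) * g⁻¹ := by rw [Subgroup.coe_mul]; group
          _ = 1 := by rw [hz, Subgroup.coe_one]; group
      · rw [h, Subgroup.coe_one, conj_eq_one_iff, OneMemClass.coe_eq_one] at hg
        exact e.z_ne_one hg
    obtain ⟨h, hh⟩ := e.involution_cases ha2.1 ha2.2
    refine ⟨h, ?_⟩
    have hc : ∀ r, h * a * h⁻¹ = r → IsConj (r : G) (e.z : G) ∧ r ≠ e.z := by
      rintro r rfl
      refine ⟨(isConj_of_eq (a := a) (h := h) rfl).symm.trans ha, fun h' => hne ?_⟩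
      rw [mul_inv_eq_iff_eq_mul, ← e.z_central, mul_right_inj] at h'
      exact h'
    have bad : ∀ r, h * a * h⁻¹ = r →
        r = e.s ∨ r = e.i * e.s ∨ r = e.i ∨ r = e.pt 1 1 * e.i → False := fun r hr hr' => by
      obtain ⟨w, hw1, hw2⟩ := sqrt_z e hr'
      exact not_conj_of_sqrt e ht (hc r hr).2 hw1 hw2 (hc r hr).1
    rcases hh with h' | h' | h' | h' | h' | h' | h'
    · exact absurd rfl (hc _ h').2
    · exact absurd (hc _ h').1 ht
    · exact (bad _ h' (Or.inr (Or.inr (Or.inl rfl)))).elim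
    · exact (bad _ h' (Or.inr (Or.inr (Or.inr rfl)))).elim
    · exact h'
    · exact (bad _ h' (Or.inl rfl)).elim
    · exact (bad _ h' (Or.inr (Or.inl rfl))).elim
  -- `q` is not conjugate to `z`
  have hqz : ¬ IsConj (q : G) (e.z : G) := by
    intro hqc
    obtain ⟨k, hk, hkC⟩ := conj_cent e hqc
    set E : Subgroup G := (S : Subgroup G) ⊓ centralizer {(q : G)} with hE
    set T : Subgroup G := (S : Subgroup G).comap (MulAut.conj k).toMonoidHom with hT
    have hET : E ≤ T := fun c ⟨hcS, hcq⟩ => hkC ⟨c, hcS⟩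
      (Subtype.ext (mem_centralizer_singleton_iff.1 hcq))
    have hTp : IsPGroup 2 T := S.isPGroup'.comap_of_injective _ (MulEquiv.injective _)
    have hTq : ∀ p ∈ T, p * (q : G) = q * p := by
      intro p hp
      have h1 : k * p * k⁻¹ * (e.z : G) = e.z * (k * p * k⁻¹) :=
        congrArg Subtype.val (e.z_central ⟨_, hp⟩)
      rw [← hk] at h1
      calc p * (q : G) = k⁻¹ * (k * p * k⁻¹ * (k * q * k⁻¹)) * k := by group
        _ = k⁻¹ * (k * q * k⁻¹ * (k * p * k⁻¹)) * k := by rw [h1]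
        _ = q * p := by group
    have hne : E ≠ T := by
      intro h
      have hc : Nat.card T = Nat.card (S : Subgroup G) := by
        rw [hT]
        exact Nat.card_congr ((MulAut.conj k).toEquiv.subtypeEquiv fun _ => Iff.rfl)
      rw [← h] at hc
      have hES : E = (S : Subgroup G) := Subgroup.eq_of_le_of_card_ge inf_le_left hc.ge
      have hs : (e.s : G) ∈ E := hES.ge e.s.2
      obtain ⟨p, q', -, -, h1 | h1⟩ := cent_q e (c := e.s)
        (Subtype.ext (mem_centralizer_singleton_iff.1 hs.2))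
      · exact e.s_ne _ _ h1.symm
      · have := congrArg e.cls h1
        rw [← one_mul e.s, ← e.pt_zero, e.cls_s, e.cls_i] at this
        exact absurd this (by decide)
    have : Group.IsNilpotent T := hTp.isNilpotent
    obtain ⟨⟨p, hpT⟩, hpN, hpE⟩ := SetLike.exists_of_lt
      (Group.normalizerCondition_of_isNilpotent (E.subgroupOf T) (lt_top_iff_ne_top.2 fun h =>
        hne (le_antisymm hET (subgroupOf_eq_top.1 h))))
    rw [mem_subgroupOf] at hpE
    have hpEE : ∀ c ∈ E, p * c * p⁻¹ ∈ E := fun c hc =>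
      (mem_normalizer_iff.1 hpN ⟨c, hET hc⟩).1 hc
    -- elements of `E`
    have inE : ∀ a b : ZMod e.N, (a = 0 ∨ a = e.m) → (b = 0 ∨ b = e.m) → (e.pt a b : G) ∈ E := by
      intro a b ha hb
      refine ⟨(e.pt a b).2, mem_centralizer_singleton_iff.2 ?_⟩
      rw [← Subgroup.coe_mul, ← Subgroup.coe_mul, SetLike.coe_eq_coe, hq, e.pt_mul', mul_assoc,
        e.i_pt, e.pt_mul', neg_eq_of_add_eq_zero_left (e.two_eq_zero_iff.2 ha),
        neg_eq_of_add_eq_zero_left (e.two_eq_zero_iff.2 hb), add_comm a, add_comm b]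
    have perm : ∀ a : ↥(S : Subgroup G), (a = e.t ∨ a = e.pt 0 e.m) →
        p * (a : G) * p⁻¹ = e.t ∨ p * (a : G) * p⁻¹ = e.pt 0 e.m := by
      intro a ha
      have haz : ¬ IsConj (a : G) (e.z : G) := by rcases ha with rfl | rfl <;> assumption
      have haE : (a : G) ∈ E := by
        rcases ha with rfl | rfl
        · exact inE _ _ (Or.inr rfl) (Or.inl rfl)
        · exact inE _ _ (Or.inl rfl) (Or.inr rfl)
      obtain ⟨hS', hq'⟩ := hpEE _ haE
      have hconj : IsConj (a : G) (p * (a : G) * p⁻¹) := isConj_iff.2 ⟨p, rfl⟩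
      obtain ⟨u, v, hu, hv, h1 | h1⟩ := cent_q e (c := ⟨_, hS'⟩)
        (Subtype.ext (mem_centralizer_singleton_iff.1 hq'))
      · have h1' : p * (a : G) * p⁻¹ = e.pt u v := congrArg Subtype.val h1
        rcases hu with rfl | rfl <;> rcases hv with rfl | rfl
        · exfalso
          rw [e.pt_zero, Subgroup.coe_one, conj_eq_one_iff, OneMemClass.coe_eq_one] at h1'
          rcases ha with rfl | rfl
          · exact e.t_ne_one h1'
          · exact e.m_ne_zero (e.pt_eq_one_iff.1 h1').2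
        · exact Or.inr h1'
        · exact Or.inl h1'
        · exfalso
          exact haz (hconj.trans (h1' ▸ IsConj.refl _))
      · exfalso
        have h1' : p * (a : G) * p⁻¹ = (e.pt (1 + u) v * e.i : ↥(S : Subgroup G)) :=
          congrArg Subtype.val h1
        refine haz (hconj.trans ?_)
        rw [h1']
        exact (m_add_one_conj e u v hu hv).symm.trans hqc
    have htne : (e.t : G) ≠ e.pt 0 e.m := fun h =>
      e.m_ne_zero (e.pt_inj.1 (Subtype.ext h)).1
    have hprod : (e.t : G) * e.pt 0 e.m = e.z ∧ (e.pt 0 e.m : G) * e.t = e.z := by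
      constructor <;>
        rw [← Subgroup.coe_mul, SetLike.coe_eq_coe, Rel.t, e.pt_mul] <;> simp [Rel.z]
    have hpz : p * (e.z : G) = e.z * p := by
      have h3 : p * (e.t : G) * p⁻¹ * (p * e.pt 0 e.m * p⁻¹) = p * e.z * p⁻¹ := by
        rw [← hprod.1]; group
      have hinj : p * (e.t : G) * p⁻¹ ≠ p * e.pt 0 e.m * p⁻¹ := by simpa using htne
      have h4 : p * (e.z : G) * p⁻¹ = e.z := by
        rcases perm _ (Or.inl rfl) with ha | ha <;> rcases perm _ (Or.inr rfl) with hb | hb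
        · exact absurd (ha.trans hb.symm) hinj
        · rw [← h3, ha, hb, hprod.1]
        · rw [← h3, ha, hb, hprod.2]
        · exact absurd (ha.trans hb.symm) hinj
      exact mul_inv_eq_iff_eq_mul.1 h4
    -- a bigger 2-subgroup of the centralizers of `q` and `z`
    set P : Subgroup G := E ⊔ zpowers p with hP
    have hPT : P ≤ T := sup_le hET (zpowers_le.2 hpT)
    have hPC : P ≤ centralizer {(e.z : G)} := sup_le
      (fun c hc => mem_centralizer_singleton_iff.2
        (congrArg Subtype.val (e.z_central ⟨c, hc.1⟩)))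
      (zpowers_le.2 (mem_centralizer_singleton_iff.2 hpz))
    set C := centralizer {(e.z : G)}
    have hSC : (S : Subgroup G) ≤ C := fun y hy =>
      mem_centralizer_singleton_iff.2 (congrArg Subtype.val (e.z_central ⟨y, hy⟩))
    obtain ⟨⟨h, hhC⟩, hh⟩ := Invol.exists_conj_subset_sylow
      ((hTp.to_le hPT).comap_of_injective C.subtype C.subtype_injective) (S.subtype hSC)
    have hhP : ∀ c ∈ P, h * c * h⁻¹ ∈ (S : Subgroup G) := fun c hc => hh ⟨c, hPC hc⟩ hc
    have hqE : (q : G) ∈ E := ⟨q.2, mem_centralizer_singleton_iff.2 rfl⟩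
    have hqS := hhP _ (le_sup_left (b := zpowers p) hqE)
    have hne' : (⟨_, hqS⟩ : ↥(S : Subgroup G)) ≠ e.z := fun h' => by
      have h1 : h * (q : G) * h⁻¹ = e.z := congrArg Subtype.val h'
      have h2 : h * (e.z : G) * h⁻¹ = e.z := by
        rw [mem_centralizer_singleton_iff.1 hhC]; group
      have h3 : q = e.z := Subtype.ext (by simpa using h1.trans h2.symm)
      exact e.pt_ne_i e.m e.m 1 0 h3.symm
    obtain ⟨s0, hs0⟩ := key ⟨_, hqS⟩
      ((isConj_iff.2 ⟨h, rfl⟩ : IsConj (q : G) (h * q * h⁻¹)).symm.trans hqc) hne'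
    have hle : P.map (MulAut.conj ((s0 : G) * h)).toMonoidHom ≤ E := by
      rintro _ ⟨c, hc, rfl⟩
      have hq0 : (s0 : G) * (h * q * h⁻¹) * (s0 : G)⁻¹ = q := congrArg Subtype.val hs0
      have hcq := hTq c (hPT hc)
      refine ⟨?_, mem_centralizer_singleton_iff.2 ?_⟩
      · show _ ∈ (S : Subgroup G)
        have := mul_mem (mul_mem s0.2 (hhP c hc)) (inv_mem s0.2)
        simpa [mul_assoc] using this
      · show (s0 : G) * h * c * ((s0 : G) * h)⁻¹ * q = q * ((s0 : G) * h * c * ((s0 : G) * h)⁻¹)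
        calc (s0 : G) * h * c * ((s0 : G) * h)⁻¹ * q
            = (s0 : G) * h * c * ((s0 : G) * h)⁻¹ * ((s0 : G) * (h * q * h⁻¹) * (s0 : G)⁻¹) := by
              rw [hq0]
          _ = (s0 : G) * h * (c * (q : G)) * ((s0 : G) * h)⁻¹ := by group
          _ = (s0 : G) * h * ((q : G) * c) * ((s0 : G) * h)⁻¹ := by rw [hcq]
          _ = (s0 : G) * (h * q * h⁻¹) * (s0 : G)⁻¹ * ((s0 : G) * h * c * ((s0 : G) * h)⁻¹) := by
              group
          _ = _ := by rw [hq0]
    have hcard := Subgroup.card_le_of_le hle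
    rw [Subgroup.card_map_of_injective (MulEquiv.injective _)] at hcard
    have hPE : E = P := Subgroup.eq_of_le_of_card_ge le_sup_left hcard
    exact hpE (hPE ▸ le_sup_right (a := E) (mem_zpowers p))
  -- so `z` is isolated
  have hz2 : orderOf (e.z : G) = 2 := by
    rw [Subgroup.orderOf_coe]
    exact orderOf_eq_prime (by rw [pow_two, Rel.z, e.pt_mul, e.m_add_m, e.pt_zero]) e.z_ne_one
  have hiso := ZStar.isIsolated_of_sylow (P := S) e.z.2 hz2 fun g hg => by
    by_contra hne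
    obtain ⟨h, hh⟩ := key ⟨_, hg⟩ (isConj_iff.2 ⟨g, rfl⟩ : IsConj (e.z : G) _).symm
      (fun h => hne (congrArg Subtype.val h))
    exact hqz ((isConj_of_eq hh).symm.trans (isConj_iff.2 ⟨g, rfl⟩ : IsConj (e.z : G) _).symm)
  obtain ⟨N, hN, hNodd, hNc⟩ := ZStar.exists_odd_normal hiso
  rcases IsSimpleGroup.eq_bot_or_eq_top_of_normal N hN with rfl | rfl
  · rcases IsSimpleGroup.eq_bot_or_eq_top_of_normal (center G) inferInstance with h | h
    · refine e.z_ne_one (Subtype.ext ((Subgroup.mem_bot).1 (h ▸ mem_center_iff.2 fun g => ?_)))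
      exact (mul_inv_eq_iff_eq_mul.1 (mul_inv_eq_one.1 (mem_bot.1 (hNc g)))).symm
    · obtain ⟨a, b, hab⟩ := not_comm e
      exact hab ((mem_center_iff.1 (h ▸ mem_top b) a))
  · rw [Subgroup.card_top] at hNodd
    exact (Nat.not_even_iff_odd.2 hNodd) (even_iff_two_dvd.2 (hz2 ▸ orderOf_dvd_natCard _))

/-- An involution of the abelian part is conjugate to `z`. -/
theorem conj_z_of_pt {a : ↥(S : Subgroup G)} (h : a = e.z ∨ a = e.t) :
    IsConj (a : G) (e.z : G) := by
  rcases h with rfl | rfl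
  · exact IsConj.refl _
  · exact z_conj_t e

/-- Involutions outside the kernel of the `i`-bit are conjugate to `z` or to `s`. -/
theorem conj_of_fst {u : ↥(S : Subgroup G)} (hu : u * u = 1) (hφ : (e.cls u).1 ≠ 1) :
    IsConj (u : G) (e.z : G) ∨ IsConj (u : G) (e.s : G) := by
  obtain ⟨x, v, hv, hφv, -⟩ := transfer_conj e ((MonoidHom.fst _ _).comp e.cls) hu hφ
  have huv : IsConj (u : G) (v : G) := isConj_iff.2 ⟨x⁻¹, by rw [hv, inv_inv]⟩
  have hv2 : v * v = 1 := Subtype.ext (by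
    rw [Subgroup.coe_mul, hv, Subgroup.coe_one]
    calc x⁻¹ * (u : G) * x * (x⁻¹ * u * x) = x⁻¹ * ((u * u : ↥(S : Subgroup G)) : G) * x := by
          rw [Subgroup.coe_mul]; group
      _ = 1 := by rw [hu, Subgroup.coe_one]; group)
  have hv1 : v ≠ 1 := fun h => by
    rw [h, Subgroup.coe_one, eq_comm] at hv
    refine hφ ?_
    have h1 : (u : G) = 1 := by
      calc (u : G) = x * (x⁻¹ * u * x) * x⁻¹ := by group
        _ = 1 := by rw [hv]; group
    rw [show u = 1 from Subtype.ext h1, map_one]; rfl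
  obtain ⟨h, hh⟩ := e.involution_cases hv2 hv1
  have bad : ∀ a b : ZMod e.N, ∀ r, h * v * h⁻¹ = r → (r = e.pt a b * e.i ∨
      r = e.pt a b * (e.i * e.s)) → False := by
    intro a b r hr hr'
    have h1 : (e.cls r).1 = 1 := by
      rw [← hr, map_mul, map_mul, map_inv, mul_inv_cancel_comm]
      exact hφv
    rcases hr' with rfl | rfl
    · rw [e.cls_i] at h1; exact absurd h1 (by decide)
    · rw [e.cls_is] at h1; exact absurd h1 (by decide)
  rcases hh with h' | h' | h' | h' | h' | h' | h'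
  · exact Or.inl (huv.trans ((isConj_of_eq h').trans (IsConj.refl _)))
  · exact Or.inl (huv.trans ((isConj_of_eq h').trans (z_conj_t e)))
  · exact (bad 0 0 _ h' (Or.inl (by rw [e.pt_zero, one_mul]))).elim
  · exact (bad 1 1 _ h' (Or.inl rfl)).elim
  · exact (bad 1 0 _ h' (Or.inl rfl)).elim
  · exact Or.inr (huv.trans (isConj_of_eq h'))
  · exact (bad 0 0 _ h' (Or.inr (by rw [e.pt_zero, one_mul]))).elim

omit [IsSimpleGroup G] in
/-- The centralizer of an involution with `i`-bit but no `s`-bit has at most sixteen elements. -/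
theorem card_cent_i (a0 b0 : ZMod e.N) :
    Nat.card (centralizer ({e.pt a0 b0 * e.i} : Set ↥(S : Subgroup G))) ≤ 16 := by
  set C := centralizer ({e.pt a0 b0 * e.i} : Set ↥(S : Subgroup G))
  have hker : Nat.card (e.cls.comp C.subtype).ker ≤ 4 := by
    have hk : ∀ c : (e.cls.comp C.subtype).ker, ∃ p q : Bool,
        (c : ↥(S : Subgroup G)) = e.pt (if p then e.m else 0) (if q then e.m else 0) := by
      rintro ⟨⟨c, hc⟩, hc1⟩
      have hc' : c * (e.pt a0 b0 * e.i) = e.pt a0 b0 * e.i * c :=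
        mem_centralizer_singleton_iff.1 hc
      have hc1' : e.cls c = 1 := hc1
      show ∃ p q : Bool, c = _
      obtain ⟨a, b, rfl | rfl | rfl | rfl⟩ := e.cases4 c
      · rw [e.pt_mul', mul_assoc, e.i_pt, e.pt_mul', mul_left_inj, e.pt_inj] at hc'
        have ha : a + a = 0 := by linear_combination hc'.1
        have hb : b + b = 0 := by linear_combination hc'.2
        rcases e.two_eq_zero_iff.1 ha with rfl | rfl <;> rcases e.two_eq_zero_iff.1 hb with rfl | rfl
        exacts [⟨false, false, rfl⟩, ⟨false, true, rfl⟩, ⟨true, false, rfl⟩, ⟨true, true, rfl⟩]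
      · rw [e.cls_i] at hc1'; exact absurd hc1' (by decide)
      · rw [e.cls_s] at hc1'; exact absurd hc1' (by decide)
      · rw [e.cls_is] at hc1'; exact absurd hc1' (by decide)
    choose p q hpq using hk
    have hi : Function.Injective fun c => (p c, q c) := fun c d h => by
      simp only [Prod.mk.injEq] at h
      exact Subtype.ext (Subtype.ext (by rw [hpq c, hpq d, h.1, h.2]))
    exact (Nat.card_le_card_of_injective _ hi).trans_eq (by simp [Nat.card_eq_fintype_card])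
  have hran : Nat.card (e.cls.comp C.subtype).range ≤ 4 :=
    (Subgroup.card_le_card_group _).trans_eq (by simp [Nat.card_eq_fintype_card])
  rw [Subgroup.card_eq_card_quotient_mul_card_subgroup (e.cls.comp C.subtype).ker,
    Nat.card_congr (QuotientGroup.quotientKerEquivRange _).toEquiv]
  calc _ ≤ 4 * 4 := Nat.mul_le_mul hran hker
    _ = 16 := by norm_num

omit [IsSimpleGroup G] in
/-- The centralizer of `s` has at least `4N` elements. -/
theorem card_cent_s : 4 * e.N ≤ Nat.card (centralizer ({e.s} : Set ↥(S : Subgroup G))) := by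
  haveI : NeZero e.N := ⟨by positivity⟩
  let f : ZMod e.N × Bool × Bool → centralizer ({e.s} : Set ↥(S : Subgroup G)) := fun v =>
    ⟨e.nf v.1 v.1 v.2, mem_centralizer_singleton_iff.2 (by
      obtain ⟨a, p, r⟩ := v
      rcases p <;> rcases r <;>
        simp [Rel.nf, mul_assoc, e.s_pt', e.s_pt, e.si, e.ss, e.si'])⟩
  have hf : Function.Injective f := fun v w h => by
    have := e.nf_inj (a₁ := ((v.1, v.1), v.2)) (a₂ := ((w.1, w.1), w.2)) (congrArg Subtype.val h)
    simp only [Prod.mk.injEq] at this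
    exact Prod.ext this.1.1 this.2
  refine le_trans (le_of_eq ?_) (Nat.card_le_card_of_injective f hf)
  simp [Nat.card_eq_fintype_card]
  ring

/-- If `s` is not conjugate to `z` then `N = 4`. -/
theorem k_eq_two (hs : ¬ IsConj (e.s : G) (e.z : G)) : e.k = 2 := by
  obtain ⟨x, v, hv, hφv, hcent⟩ := transfer_conj e ((MonoidHom.snd _ _).comp e.cls) e.ss (by
    show (e.cls e.s).2 ≠ 1
    rw [← one_mul e.s, ← e.pt_zero, e.cls_s]; decide)
  have hsv : IsConj (e.s : G) (v : G) := isConj_iff.2 ⟨x⁻¹, by rw [hv, inv_inv]⟩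
  have hv2 : v * v = 1 := Subtype.ext (by
    rw [Subgroup.coe_mul, hv, Subgroup.coe_one]
    calc x⁻¹ * (e.s : G) * x * (x⁻¹ * e.s * x) =
        x⁻¹ * ((e.s * e.s : ↥(S : Subgroup G)) : G) * x := by rw [Subgroup.coe_mul]; group
      _ = 1 := by rw [e.ss, Subgroup.coe_one]; group)
  have hs1 : e.s ≠ 1 := fun h => e.s_ne 0 0 (by rw [e.pt_zero, h])
  have hv1 : v ≠ 1 := fun h => by
    rw [h, Subgroup.coe_one, eq_comm] at hv
    refine hs1 (Subtype.ext ?_)
    calc (e.s : G) = x * (x⁻¹ * e.s * x) * x⁻¹ := by group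
      _ = 1 := by rw [hv]; group
  obtain ⟨h, hh⟩ := e.involution_cases hv2 hv1
  obtain ⟨a0, b0, hr⟩ : ∃ a b : ZMod e.N, h * v * h⁻¹ = e.pt a b * e.i := by
    have bad : ∀ a b : ZMod e.N, ∀ r, h * v * h⁻¹ = r → (r = e.pt a b * e.s ∨
        r = e.pt a b * (e.i * e.s)) → False := by
      intro a b r hr hr'
      have h1 : (e.cls r).2 = 1 := by
        rw [← hr, map_mul, map_mul, map_inv, mul_inv_cancel_comm]
        exact hφv
      rcases hr' with rfl | rfl
      · rw [e.cls_s] at h1; exact absurd h1 (by decide)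
      · rw [e.cls_is] at h1; exact absurd h1 (by decide)
    rcases hh with h' | h' | h' | h' | h' | h' | h'
    · exact absurd (hsv.trans ((isConj_of_eq h').trans (IsConj.refl _))) hs
    · exact absurd (hsv.trans ((isConj_of_eq h').trans (z_conj_t e))) hs
    · exact ⟨0, 0, by rw [h', e.pt_zero, one_mul]⟩
    · exact ⟨1, 1, h'⟩
    · exact ⟨1, 0, h'⟩
    · exact (bad 0 0 _ h' (Or.inl (by rw [e.pt_zero, one_mul]))).elim
    · exact (bad 0 0 _ h' (Or.inr (by rw [e.pt_zero, one_mul]))).elim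
  have hle : Nat.card (centralizer ({e.s} : Set ↥(S : Subgroup G))) ≤
      Nat.card (centralizer ({e.pt a0 b0 * e.i} : Set ↥(S : Subgroup G))) := by
    let f : centralizer ({e.s} : Set ↥(S : Subgroup G)) →
        centralizer ({e.pt a0 b0 * e.i} : Set ↥(S : Subgroup G)) := fun c =>
      ⟨h * ⟨x⁻¹ * (c : ↥(S : Subgroup G)) * x,
          hcent c (mem_centralizer_singleton_iff.1 c.2)⟩ * h⁻¹, mem_centralizer_singleton_iff.2 (by
        have hc := congrArg Subtype.val (mem_centralizer_singleton_iff.1 c.2)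
        rw [Subgroup.coe_mul, Subgroup.coe_mul] at hc
        rw [← hr]
        apply Subtype.ext
        push_cast
        rw [hv]
        calc (h : G) * (x⁻¹ * ((c : ↥(S : Subgroup G)) : G) * x) * (h : G)⁻¹ *
              ((h : G) * (x⁻¹ * (e.s : G) * x) * (h : G)⁻¹)
            = (h : G) * (x⁻¹ * (((c : ↥(S : Subgroup G)) : G) * e.s) * x) * (h : G)⁻¹ := by group
          _ = (h : G) * (x⁻¹ * ((e.s : G) * ((c : ↥(S : Subgroup G)) : G)) * x) * (h : G)⁻¹ := by
              rw [hc]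
          _ = _ := by group)⟩
    refine Nat.card_le_card_of_injective f fun c d hcd => Subtype.ext (Subtype.ext ?_)
    have := congrArg (fun w : centralizer ({e.pt a0 b0 * e.i} : Set ↥(S : Subgroup G)) =>
      ((w : ↥(S : Subgroup G)) : G)) hcd
    simpa [f, mul_assoc] using this
  have h1 := (card_cent_s e).trans (hle.trans (card_cent_i e a0 b0))
  have h2 := e.hk
  by_contra hk
  have h3 : 2 ^ 3 ≤ e.N := Nat.pow_le_pow_right two_pos (by omega)
  omega

/-- The involution classes. -/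
theorem classes :
    (∀ x y : G, orderOf x = 2 → orderOf y = 2 → IsConj x y) ∨
      (Nat.card ↥(S : Subgroup G) = 64 ∧ ∃ x y : G, orderOf x = 2 ∧ orderOf y = 2 ∧ ¬ IsConj x y ∧
        ∀ z : G, orderOf z = 2 → IsConj z x ∨ IsConj z y) := by
  have hall : ∀ g : G, orderOf g = 2 → IsConj g (e.z : G) ∨ IsConj g (e.s : G) := by
    intro g hg
    obtain ⟨c, hc⟩ := Invol.exists_conj_mem_sylow (n := 1) (by rw [hg, pow_one]) S
    have hgc : IsConj g (c * g * c⁻¹) := isConj_iff.2 ⟨c, rfl⟩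
    have ho : orderOf (⟨_, hc⟩ : ↥(S : Subgroup G)) = 2 := by
      rw [Subgroup.orderOf_mk, Invol.orderOf_conj_eq, hg]
    obtain ⟨h1, h2⟩ := Invol.orderOf_two_iff.1 ho
    suffices IsConj (c * g * c⁻¹) (e.z : G) ∨ IsConj (c * g * c⁻¹) (e.s : G) from
      this.imp hgc.trans hgc.trans
    obtain ⟨h, hh⟩ := e.involution_cases h1 h2
    have key : ∀ r, h * ⟨_, hc⟩ * h⁻¹ = r → (IsConj (r : G) (e.z : G) ∨ IsConj (r : G) (e.s : G)) →
        IsConj (c * g * c⁻¹) (e.z : G) ∨ IsConj (c * g * c⁻¹) (e.s : G) := fun r hr hor =>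
      hor.imp (isConj_of_eq hr).trans (isConj_of_eq hr).trans
    have hfst : ∀ r : ↥(S : Subgroup G), (∃ a b, r = e.pt a b * e.i ∨
        r = e.pt a b * (e.i * e.s)) → (e.cls r).1 ≠ 1 := by
      rintro r ⟨a, b, rfl | rfl⟩
      · rw [e.cls_i]; decide
      · rw [e.cls_is]; decide
    have hsq : ∀ r, h * (⟨_, hc⟩ : ↥(S : Subgroup G)) * h⁻¹ = r → r * r = 1 := by
      rintro r rfl
      calc h * (⟨_, hc⟩ : ↥(S : Subgroup G)) * h⁻¹ * (h * ⟨_, hc⟩ * h⁻¹)
          = h * ((⟨_, hc⟩ : ↥(S : Subgroup G)) * ⟨_, hc⟩) * h⁻¹ := by group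
        _ = 1 := by rw [h1]; group
    rcases hh with h' | h' | h' | h' | h' | h' | h'
    · exact key _ h' (Or.inl (IsConj.refl _))
    · exact key _ h' (Or.inl (z_conj_t e))
    · exact key _ h' (conj_of_fst e (hsq _ h')
        (hfst _ ⟨0, 0, Or.inl (by rw [e.pt_zero, one_mul])⟩))
    · exact key _ h' (conj_of_fst e (hsq _ h') (hfst _ ⟨1, 1, Or.inl rfl⟩))
    · exact key _ h' (conj_of_fst e (hsq _ h') (hfst _ ⟨1, 0, Or.inl rfl⟩))
    · exact key _ h' (Or.inr (IsConj.refl _))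
    · exact key _ h' (conj_of_fst e (hsq _ h')
        (hfst _ ⟨0, 0, Or.inr (by rw [e.pt_zero, one_mul])⟩))
  by_cases hs : IsConj (e.s : G) (e.z : G)
  · refine Or.inl fun x y hx hy => ?_
    have h1 : ∀ g : G, orderOf g = 2 → IsConj g (e.z : G) := fun g hg =>
      (hall g hg).elim id fun h => h.trans hs
    exact (h1 x hx).trans (h1 y hy).symm
  · refine Or.inr ⟨?_, (e.z : G), (e.s : G), ?_, ?_, fun h => hs h.symm, hall⟩
    · rw [e.card, k_eq_two e hs]; norm_num
    · rw [Subgroup.orderOf_coe]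
      exact orderOf_eq_prime (by rw [pow_two, Rel.z, e.pt_mul, e.m_add_m, e.pt_zero]) e.z_ne_one
    · rw [Subgroup.orderOf_coe]
      exact orderOf_eq_prime (by rw [pow_two, e.ss])
        fun h => e.s_ne 0 0 (by rw [e.pt_zero, h])

end Cfsg.Agent.Grp.GTwoSylow
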