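import Cfsg.Agent.Lib.Grp.GTwoSylow.Builder
import Cfsg.Agent.Lib.Fus.GTwoOddClass
import Cfsg.Agent.Lib.Fus.PSLTwo
import Cfsg.Agent.Lib.Lie.Chev.InvolutionMoves

/-!
The Sylow 2-subgroups of `G₂(q)`, `q` odd, carry a frame.
-/

set_option autoImplicit false
set_option maxRecDepth 20000

namespace Cfsg.Agent.Grp.GTwoSylow

open Cfsg.Lie Matrix Cfsg.Agent.Lie.Chev Cfsg.Agent.Fus.G2Odd
open scoped MatrixGroups

variable {F : Type*} [Field F]

/-- Conjugation by `diag(σ, 1)`. -/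
def tw (σ : Fˣ) : SL(2, F) →* SL(2, F) where
  toFun g := ⟨!![g.1 0 0, (σ : F) * g.1 0 1; ((σ⁻¹ : Fˣ) : F) * g.1 1 0, g.1 1 1], by
    have hd := det_two g
    rw [Matrix.det_fin_two_of]
    linear_combination hd + (-(g.1 0 1 * g.1 1 0)) * Units.mul_inv σ⟩
  map_one' := by refine ext_two ?_ ?_ ?_ ?_ <;> simp
  map_mul' g h := by
    refine Subtype.ext ?_
    show !![(g.1 * h.1) 0 0, (σ : F) * (g.1 * h.1) 0 1; ((σ⁻¹ : Fˣ) : F) * (g.1 * h.1) 1 0,
        (g.1 * h.1) 1 1] =
      !![g.1 0 0, (σ : F) * g.1 0 1; ((σ⁻¹ : Fˣ) : F) * g.1 1 0, g.1 1 1] *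
        !![h.1 0 0, (σ : F) * h.1 0 1; ((σ⁻¹ : Fˣ) : F) * h.1 1 0, h.1 1 1]
    ext i j
    fin_cases i <;> fin_cases j <;> simp [Matrix.mul_apply, Fin.sum_univ_two] <;> field_simp

theorem tw_val (σ : Fˣ) (g : SL(2, F)) :
    (tw σ g).1 = !![g.1 0 0, (σ : F) * g.1 0 1; ((σ⁻¹ : Fˣ) : F) * g.1 1 0, g.1 1 1] := rfl

theorem tw_up (σ : Fˣ) (t : F) : tw σ (upSL t) = upSL ((σ : F) * t) := by
  refine ext_two ?_ ?_ ?_ ?_ <;> rw [tw_val, upSL_val, upSL_val] <;> simp

theorem tw_lo (σ : Fˣ) (t : F) : tw σ (loSL t) = loSL (((σ⁻¹ : Fˣ) : F) * t) := by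
  refine ext_two ?_ ?_ ?_ ?_ <;> rw [tw_val, loSL_val, loSL_val] <;> simp

theorem w_tw (σ : Fˣ) : wSL * tw σ wSL⁻¹ = dSL ((σ⁻¹ : Fˣ) : F) (Units.ne_zero _) := by
  refine ext_two ?_ ?_ ?_ ?_ <;>
    rw [mul_val, tw_val, inv_val, wSL_val, dSL_val, Matrix.adjugate_fin_two_of] <;>
    simp [Matrix.mul_apply, Fin.sum_univ_two]

theorem tw_neg_one (σ : Fˣ) : tw σ (dSL (-1) (neg_ne_zero.2 one_ne_zero)) =
    dSL (-1) (neg_ne_zero.2 one_ne_zero) := by
  refine ext_two ?_ ?_ ?_ ?_ <;> rw [tw_val, dSL_val] <;> simp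

theorem torus_conj_phi (z : ℕ → Fˣ) (r : ℕ) (hr : r < 12) (g : SL(2, F)) :
    certFullG2.torus z * phi F r hr g =
      phi F r hr (tw (certFullG2.tchar z r) g) * certFullG2.torus z := by
  have hr' : r < chevG2.nroots := hr
  have hn : chevG2.neg r < chevG2.nroots := by
    rw [neg_root hr]; show 11 - r < 12; omega
  have e : (MulAut.conj (certFullG2.torus z)).toMonoidHom.comp (phi F r hr) =
      (phi F r hr).comp (tw (certFullG2.tchar z r)) := by
    refine slHom_ext (fun t => ?_) (fun t => ?_)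
    · show certFullG2.torus z * phi F r hr (upSL t) * (certFullG2.torus z)⁻¹ = _
      rw [phi_up, certFullG2.torus_conj_xg z hr', MonoidHom.comp_apply, tw_up, phi_up]
    · show certFullG2.torus z * phi F r hr (loSL t) * (certFullG2.torus z)⁻¹ = _
      rw [phi_lo, certFullG2.torus_conj_xg z hn, MonoidHom.comp_apply, tw_lo, phi_lo,
        certFullG2.tchar_neg z hr']
  exact mul_inv_eq_iff_eq_mul.1 (DFunLike.congr_fun e g)

theorem tor_mem_group (a b : Fˣ) : tor a b ∈ Gs F := (mem_Cz.1 (H_le_Cz (tor_mem a b))).1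

/-- The diagonal subgroup in coordinates. -/
noncomputable def TH : Fˣ × Fˣ →* ↥(Gs F) :=
  MonoidHom.mk' (fun p => ⟨tor p.1 p.2, tor_mem_group _ _⟩)
    fun p q => Subtype.ext (tor_mul p.1 p.2 q.1 q.2).symm

theorem TH_conj_P1 (l : Fˣ) (g : SL(2, F)) :
    TH (1, l) * P1 F g = P1 F (tw l g) * TH (1, l) := by
  have h := torus_conj_phi (fun i => if i = 0 then 1 else l) 11 (by omega) g
  have e : certFullG2.tchar (fun i => if i = 0 then (1 : Fˣ) else l) 11 = l := by
    simp [Cert.tchar, show chevG2.rank = 2 from rfl, Finset.prod_range_succ,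
      show certFullG2.T.cartan 1 11 = 1 by decide +kernel]
  rw [e] at h
  exact Subtype.ext h

theorem TH_conj_P2 (l : Fˣ) (g : SL(2, F)) :
    TH (1, l) * P2 F g = P2 F (tw l⁻¹ g) * TH (1, l) := by
  have h := torus_conj_phi (fun i => if i = 0 then 1 else l) 7 (by omega) g
  have e : certFullG2.tchar (fun i => if i = 0 then (1 : Fˣ) else l) 7 = l⁻¹ := by
    simp [Cert.tchar, show chevG2.rank = 2 from rfl, Finset.prod_range_succ,
      show certFullG2.T.cartan 1 7 = -1 by decide +kernel]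
  rw [e] at h
  exact Subtype.ext h

theorem P1_d (t : Fˣ) : P1 F (dSL (t : F) t.ne_zero) = TH (t, t * t) :=
  Subtype.ext (by show p1 F _ = tor t (t * t); rw [phi_d, hg_eleven])

theorem P2_d (t : Fˣ) : P2 F (dSL (t : F) t.ne_zero) = TH (t, 1) :=
  Subtype.ext (by show p2 F _ = tor t 1; rw [phi_d, hg_seven])

theorem P_commute (g g' : SL(2, F)) : Commute (P1 F g) (P2 F g') :=
  Subtype.ext (p_commute g g').eq

theorem P1_neg_one : P1 F (dSL (-1) (neg_ne_zero.2 one_ne_zero)) = hI F := Subtype.ext p1_neg_one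

theorem P2_neg_one : P2 F (dSL (-1) (neg_ne_zero.2 one_ne_zero)) = hI F := Subtype.ext p2_neg_one

theorem hI_eq : hI F = TH (-1, 1) := by
  rw [← P2_neg_one, ← P2_d]; congr 1

theorem hI_mul_self : hI F * hI F = 1 := Subtype.ext hz_sq

theorem hI_ne (hodd : (-1 : F) ≠ 1) : hI F ≠ 1 := fun h => hz_ne_one hodd (congrArg Subtype.val h)

theorem P1_of_sq_neg {W : SL(2, F)} (hW : W * W = dSL (-1) (neg_ne_zero.2 one_ne_zero)) :
    P1 F W * P1 F W = hI F := by rw [← map_mul, hW, P1_neg_one]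

theorem P2_of_sq_neg {W : SL(2, F)} (hW : W * W = dSL (-1) (neg_ne_zero.2 one_ne_zero)) :
    P2 F W * P2 F W = hI F := by rw [← map_mul, hW, P2_neg_one]

theorem wSL_sq : (wSL : SL(2, F)) * wSL = dSL (-1) (neg_ne_zero.2 one_ne_zero) := by
  refine ext_two ?_ ?_ ?_ ?_ <;> rw [mul_val, wSL_val, dSL_val] <;>
    simp [Matrix.mul_apply, Fin.sum_univ_two]

/-- The seed for `q ≡ 1 [MOD 4]`: a diagonal element and the two Weyl elements. -/
noncomputable def seedOne (hodd : (-1 : F) ≠ 1) (k : ℕ) (hk : 2 ≤ k) (l : Fˣ)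
    (hl : l ^ 2 ^ k = 1) (hl' : l ^ 2 ^ (k - 1) = -1) : Seed ↥(Gs F) :=
  have hwa : P1 F wSL * TH (1, l) * (P1 F wSL)⁻¹ = TH (l⁻¹, l⁻¹) := by
    rw [← map_inv, mul_assoc, TH_conj_P1, ← mul_assoc, ← map_mul, w_tw, P1_d, ← map_mul,
      Prod.mk_mul_mk]
    simp [mul_assoc]
  have hwb : P2 F wSL * TH (1, l) * (P2 F wSL)⁻¹ = P2 F (dSL (l : F) l.ne_zero) * TH (1, l) := by
    rw [← map_inv, mul_assoc, TH_conj_P2, ← mul_assoc, ← map_mul, w_tw]
    simp only [inv_inv]
  { k := k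
    hk := hk
    x := TH (1, l)
    wa := P1 F wSL
    wb := P2 F wSL
    z := hI F
    z_ne := hI_ne hodd
    zz := hI_mul_self
    aa := P1_of_sq_neg wSL_sq
    bb := P2_of_sq_neg wSL_sq
    ab := (P_commute _ _).eq
    zx := by rw [hI_eq, ← map_mul, ← map_mul, mul_comm]
    xN := by rw [← map_pow, Prod.pow_mk, one_pow, hl]; exact map_one _
    comm := by rw [hwa, ← map_mul, ← map_mul, mul_comm]
    half := by
      rw [hwa, ← map_mul, Prod.mk_mul_mk, one_mul, mul_inv_cancel, ← map_pow, Prod.pow_mk,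
        one_pow, inv_pow, hl', hI_eq]
      simp
    inv := by
      calc P1 F wSL * P2 F wSL * TH (1, l) * (P1 F wSL * P2 F wSL)⁻¹
          = P1 F wSL * (P2 F wSL * TH (1, l) * (P2 F wSL)⁻¹) * (P1 F wSL)⁻¹ := by group
        _ = P1 F wSL * P2 F (dSL (l : F) l.ne_zero) * TH (1, l) * (P1 F wSL)⁻¹ := by
            rw [hwb]; group
        _ = P2 F (dSL (l : F) l.ne_zero) * (P1 F wSL * TH (1, l) * (P1 F wSL)⁻¹) := by
            rw [(P_commute _ _).eq]; group
        _ = (TH (1, l))⁻¹ := by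
            rw [hwa, P2_d, ← map_mul, ← map_inv, Prod.mk_mul_mk]; simp }

/-- The seed for `q ≡ 3 [MOD 4]`. -/
noncomputable def seedThree (hodd : (-1 : F) ≠ 1) (k : ℕ) (hk : 2 ≤ k) (W A : SL(2, F))
    (hW : W * W = dSL (-1) (neg_ne_zero.2 one_ne_zero)) (hA : tw (-1) W * W = A)
    (hAk : A ^ 2 ^ (k - 1) = dSL (-1) (neg_ne_zero.2 one_ne_zero)) : Seed ↥(Gs F) :=
  have hi : (-1 : Fˣ)⁻¹ = -1 := by simp
  have cab : ∀ g g' : SL(2, F), P2 F g' * P1 F g = P1 F g * P2 F g' := fun g g' =>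
    (P_commute g g').eq.symm
  have e1 : ∀ g : SL(2, F), TH (1, -1) * P1 F g = P1 F (tw (-1) g) * TH (1, -1) :=
    TH_conj_P1 (-1)
  have e2 : ∀ g : SL(2, F), TH (1, -1) * P2 F g = P2 F (tw (-1) g) * TH (1, -1) := fun g => by
    rw [TH_conj_P2, hi]
  have eE : (TH (1, -1) : ↥(Gs F)) * TH (1, -1) = 1 := by
    rw [← map_mul, Prod.mk_mul_mk, one_mul, neg_one_mul, neg_neg]; exact map_one _
  have hxx : TH (1, -1) * P1 F W * P2 F W * (TH (1, -1) * P1 F W * P2 F W) = P1 F A * P2 F A := by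
    calc TH (1, -1) * P1 F W * P2 F W * (TH (1, -1) * P1 F W * P2 F W)
        = P1 F (tw (-1) W) * TH (1, -1) * P2 F W * (TH (1, -1) * P1 F W * P2 F W) := by
          rw [← e1]
      _ = P1 F (tw (-1) W) * (TH (1, -1) * P2 F W) * TH (1, -1) * (P1 F W * P2 F W) := by group
      _ = P1 F (tw (-1) W) * P2 F (tw (-1) W) * (TH (1, -1) * TH (1, -1)) * (P1 F W * P2 F W) := by
          rw [e2]; group
      _ = P1 F (tw (-1) W) * (P2 F (tw (-1) W) * P1 F W) * P2 F W := by rw [eE]; group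
      _ = P1 F (tw (-1) W) * P1 F W * (P2 F (tw (-1) W) * P2 F W) := by rw [cab]; group
      _ = P1 F A * P2 F A := by rw [← map_mul, ← map_mul, hA]
  have hy : P1 F W * (TH (1, -1) * P1 F W * P2 F W) * (P1 F W)⁻¹ =
      P1 F W * TH (1, -1) * P2 F W := by
    calc P1 F W * (TH (1, -1) * P1 F W * P2 F W) * (P1 F W)⁻¹
        = P1 F W * TH (1, -1) * (P1 F W * P2 F W) * (P1 F W)⁻¹ := by group
      _ = P1 F W * TH (1, -1) * P2 F W := by rw [← cab]; group
  have hxy : TH (1, -1) * P1 F W * P2 F W * (P1 F W * TH (1, -1) * P2 F W) =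
      hI F * P2 F A := by
    calc TH (1, -1) * P1 F W * P2 F W * (P1 F W * TH (1, -1) * P2 F W)
        = TH (1, -1) * P1 F W * (P2 F W * P1 F W) * TH (1, -1) * P2 F W := by group
      _ = TH (1, -1) * P1 F (W * W) * P2 F W * TH (1, -1) * P2 F W := by
          rw [cab, map_mul]; group
      _ = P1 F (tw (-1) (W * W)) * (TH (1, -1) * P2 F W) * TH (1, -1) * P2 F W := by
          rw [e1]; group
      _ = P1 F (tw (-1) (W * W)) * P2 F (tw (-1) W) * (TH (1, -1) * TH (1, -1)) * P2 F W := by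
          rw [e2]; group
      _ = hI F * P2 F A := by
          rw [eE, mul_one, mul_assoc, ← map_mul, hA, hW, ← P1_neg_one]
          congr 2
          exact tw_neg_one _
  have hyx : P1 F W * TH (1, -1) * P2 F W * (TH (1, -1) * P1 F W * P2 F W) =
      hI F * P2 F A := by
    calc P1 F W * TH (1, -1) * P2 F W * (TH (1, -1) * P1 F W * P2 F W)
        = P1 F W * (TH (1, -1) * P2 F W) * TH (1, -1) * (P1 F W * P2 F W) := by group
      _ = P1 F W * P2 F (tw (-1) W) * (TH (1, -1) * TH (1, -1)) * (P1 F W * P2 F W) := by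
          rw [e2]; group
      _ = P1 F W * (P2 F (tw (-1) W) * P1 F W) * P2 F W := by rw [eE]; group
      _ = P1 F W * P1 F W * (P2 F (tw (-1) W) * P2 F W) := by rw [cab]; group
      _ = hI F * P2 F A := by rw [P1_of_sq_neg hW, ← map_mul, hA]
  have hz1 : ∀ g, hI F * P1 F g = P1 F g * hI F := fun g => by
    rw [← P2_neg_one]; exact cab _ _
  have hz2 : ∀ g, hI F * P2 F g = P2 F g * hI F := fun g => by
    rw [← P1_neg_one]; exact (P_commute _ _).eq
  { k := k
    hk := hk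
    x := TH (1, -1) * P1 F W * P2 F W
    wa := P1 F W
    wb := P2 F W
    z := hI F
    z_ne := hI_ne hodd
    zz := hI_mul_self
    aa := P1_of_sq_neg hW
    bb := P2_of_sq_neg hW
    ab := (P_commute _ _).eq
    zx := by
      have hT : hI F * TH (1, -1) = TH (1, -1) * hI F := by
        rw [hI_eq, ← map_mul, ← map_mul, mul_comm]
      exact ((show Commute (hI F) (TH (1, -1)) from hT).mul_right (hz1 W)).mul_right (hz2 W)
    xN := by
      obtain ⟨j, rfl⟩ : ∃ j, k = j + 1 := ⟨k - 1, by omega⟩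
      rw [pow_succ', pow_mul, pow_two, hxx, (P_commute A A).mul_pow, ← map_pow, ← map_pow,
        show j = j + 1 - 1 from rfl, hAk, P1_neg_one, P2_neg_one, hI_mul_self]
    comm := by rw [hy, hxy, hyx]
    half := by
      rw [hy, hxy, (show Commute (hI F) (P2 F A) from hz2 A).mul_pow, ← map_pow, hAk, P2_neg_one]
      obtain ⟨j, rfl⟩ : ∃ j, k = j + 2 := ⟨k - 2, by omega⟩
      rw [show j + 2 - 1 = j + 1 from rfl, pow_succ', pow_mul, pow_two, hI_mul_self, one_pow,
        one_mul]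
    inv := by
      have ha : (P1 F W)⁻¹ = hI F * P1 F W := inv_eq_of_mul_eq_one_left (by
        rw [mul_assoc, P1_of_sq_neg hW, hI_mul_self])
      have hb : (P2 F W)⁻¹ = hI F * P2 F W := inv_eq_of_mul_eq_one_left (by
        rw [mul_assoc, P2_of_sq_neg hW, hI_mul_self])
      calc P1 F W * P2 F W * (TH (1, -1) * P1 F W * P2 F W) * (P1 F W * P2 F W)⁻¹
          = P1 F W * P2 F W * TH (1, -1) := by group
        _ = hI F * hI F * (P2 F W * P1 F W) * TH (1, -1) := by rw [hI_mul_self, one_mul, cab]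
        _ = hI F * P2 F W * (hI F * P1 F W) * TH (1, -1) := by
            rw [show hI F * P2 F W * (hI F * P1 F W) = hI F * (P2 F W * hI F) * P1 F W by group,
              ← hz2]
            group
        _ = (TH (1, -1) * P1 F W * P2 F W)⁻¹ := by
            rw [← ha, ← hb, _root_.mul_inv_rev, _root_.mul_inv_rev, inv_eq_of_mul_eq_one_right eE, mul_assoc] }

/-- An element of order `2 ^ k` of a cyclic group whose order has 2-part `2 ^ k`. -/
theorem exists_order {C : Type*} [Group C] [Finite C] [IsCyclic C] {k m : ℕ}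
    (h : Nat.card C = 2 ^ k * m) : ∃ g : C, orderOf g = 2 ^ k := by
  obtain ⟨g, hg⟩ := IsCyclic.exists_ofOrder_eq_natCard (α := C)
  have hm : m ≠ 0 := fun e => by
    rw [e, mul_zero] at h
    exact (Nat.card_pos (α := C)).ne' h
  exact ⟨g ^ m, by
    rw [orderOf_pow_of_dvd hm (by rw [hg, h]; exact dvd_mul_left _ _), hg, h,
      Nat.mul_div_cancel _ (Nat.pos_of_ne_zero hm)]⟩

theorem factorization_two {n o : ℕ} (ho : o % 2 = 1) : (2 ^ n * o).factorization 2 = n := by
  rw [Nat.factorization_mul (by positivity) (by omega), Finsupp.add_apply,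
    Nat.Prime.factorization_pow Nat.prime_two, Finsupp.single_eq_same,
    Nat.factorization_eq_zero_of_not_dvd (by omega), add_zero]

theorem card_factorization [Fintype F] (hq : Fintype.card F % 2 = 1) {k a b : ℕ} (ha : a % 2 = 1)
    (hb : b % 2 = 1) (h : (Fintype.card F - 1) * (Fintype.card F + 1) = 2 ^ (k + 1) * (a * b)) :
    (Nat.card ↥(Gs F)).factorization 2 = 2 * k + 2 := by
  have h2 : Fintype.card F ^ 2 - 1 = 2 ^ (k + 1) * (a * b) := by
    rw [← h, mul_comm, ← Nat.sq_sub_sq, one_pow]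
  have h6 : Fintype.card F ^ 6 - 1 =
      (Fintype.card F ^ 2 - 1) * (Fintype.card F ^ 4 + Fintype.card F ^ 2 + 1) := by
    obtain ⟨u, hu⟩ : ∃ u, Fintype.card F ^ 2 = u + 1 :=
      ⟨_, (Nat.sub_add_cancel (Nat.one_le_pow _ _ (by omega))).symm⟩
    rw [show Fintype.card F ^ 6 = (Fintype.card F ^ 2) ^ 3 by ring,
      show Fintype.card F ^ 4 = (Fintype.card F ^ 2) ^ 2 by ring, hu, Nat.add_sub_cancel,
      Nat.sub_eq_iff_eq_add (Nat.one_le_pow _ _ (by omega))]
    ring
  have hcard : Nat.card ↥(Gs F) = 2 ^ (2 * k + 2) * (Fintype.card F ^ 6 * ((a * b) * (a * b)) *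
      (Fintype.card F ^ 4 + Fintype.card F ^ 2 + 1)) := by
    rw [card_group, h6, h2, show 2 * k + 2 = (k + 1) + (k + 1) by ring, pow_add 2 (k + 1) (k + 1)]
    ring
  rw [hcard]
  refine factorization_two ?_
  simp [Nat.mul_mod, Nat.pow_mod, Nat.add_mod, hq, ha, hb]

open Fus.PSLTwo in
/-- For `q ≡ 3 [MOD 4]`: the element inverting the norm-one torus. -/
theorem exists_W [Fintype F] (h4 : Fintype.card F % 4 = 3) {k m : ℕ} (hk : 2 ≤ k) (hm : m % 2 = 1)
    (h : Fintype.card F + 1 = 2 ^ k * m) :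
    ∃ W A : SL(2, F), W * W = dSL (-1) (neg_ne_zero.2 one_ne_zero) ∧ tw (-1) W * W = A ∧
      A ^ 2 ^ (k - 1) = dSL (-1) (neg_ne_zero.2 one_ne_zero) := by
  have hodd : Fintype.card F % 2 = 1 := by omega
  have h2 := two_ne_zero_of_odd (F := F) hodd
  have hT := (natCard_torus (F := F) hodd).2 h4
  haveI := isCyclic_torus (F := F) hodd
  obtain ⟨A, hA⟩ := exists_order (hT.trans h)
  have hsq : ∀ M : torus F, M * M = 1 → M = 1 ∨ M.1 = dSL (-1) (neg_ne_zero.2 one_ne_zero) := by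
    intro M hM
    have hd := torus_det M.2
    have e0 := congrArg (fun N : torus F => (N.1 : Matrix (Fin 2) (Fin 2) F) 0 0) hM
    simp [Matrix.mul_apply, Fin.sum_univ_two, M.2.2] at e0
    have hb : (M.1 : Matrix (Fin 2) (Fin 2) F) 1 0 = 0 := by
      have : (2 : F) * ((M.1 : Matrix (Fin 2) (Fin 2) F) 1 0 *
          (M.1 : Matrix (Fin 2) (Fin 2) F) 1 0) = 0 := by linear_combination hd - e0
      exact mul_self_eq_zero.1 ((mul_eq_zero.1 this).resolve_left h2)
    rw [hb, mul_zero, add_zero] at hd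
    rcases mul_self_eq_one_iff.1 hd with ha | ha
    · exact Or.inl (torus_ext (by simpa using ha) (by simpa using hb))
    · refine Or.inr (ext_two ?_ ?_ ?_ ?_) <;> simp [dSL, ha, hb, M.2.1, M.2.2]
  have hne : A ^ 2 ^ (k - 1) ≠ 1 := fun e => by
    have := orderOf_dvd_of_pow_eq_one e
    rw [hA, Nat.pow_dvd_pow_iff_le_right one_lt_two] at this
    omega
  have hsplit : 2 ^ (k - 1) + 2 ^ (k - 1) = 2 ^ k := by
    rw [← two_mul, ← pow_succ']; congr 1; omega
  have hAk : (A.1 : SL(2, F)) ^ 2 ^ (k - 1) = dSL (-1) (neg_ne_zero.2 one_ne_zero) := by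
    refine (Subgroup.coe_pow _ _ _).symm.trans ((hsq _ ?_).resolve_left hne)
    rw [← pow_add, hsplit, ← hA, pow_orderOf_eq_one]
  set a := (A.1 : Matrix (Fin 2) (Fin 2) F) 0 0 with ha
  set b := (A.1 : Matrix (Fin 2) (Fin 2) F) 1 0 with hb
  have hd : a * a + b * b = 1 := torus_det A.2
  have hb0 : b ≠ 0 := fun e => hne (by
    have h1 : A * A = 1 := torus_ext
      (by
        simp [Matrix.mul_apply, Fin.sum_univ_two, A.2.2, ← ha, ← hb, e]
        rw [e] at hd; linear_combination hd)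
      (by simp [Matrix.mul_apply, Fin.sum_univ_two, A.2.1, ← ha, ← hb, e])
    rw [show (2 : ℕ) ^ (k - 1) = 2 * 2 ^ (k - 2) by rw [← pow_succ']; congr 1; omega, pow_mul,
      pow_two, h1, one_pow])
  have hnot : ¬ IsSquare ((1 + a) / 2) := by
    rintro ⟨u, hu⟩
    have hu0 : u ≠ 0 := by
      rintro rfl
      rw [mul_zero, div_eq_zero_iff, or_iff_left h2] at hu
      have : b * b = 0 := by linear_combination hd - (a - 1) * hu
      exact hb0 (mul_self_eq_zero.1 this)
    have hu' : u ^ 2 * 2 = 1 + a := by rw [pow_two, ← hu, div_mul_cancel₀ _ h2]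
    have hC : u * u - -(b / (2 * u)) * (b / (2 * u)) = 1 := by
      field_simp
      linear_combination hd + (u ^ 2 * 2 + a - 1) * hu'
    let C : torus F := ⟨mk2 u (-(b / (2 * u))) (b / (2 * u)) u hC, by constructor <;> simp⟩
    have hCC : C * C = A := by
      refine torus_ext ?_ ?_
      · simp [C, Matrix.mul_apply, Fin.sum_univ_two, ← ha]
        field_simp
        linear_combination (u ^ 2 * 2 - a + 1) * hu' - hd
      · simp [C, Matrix.mul_apply, Fin.sum_univ_two, ← hb]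
        field_simp
        ring
    haveI : Fact (Nat.Prime 2) := ⟨Nat.prime_two⟩
    have hord : orderOf C = 2 ^ (k + 1) := by
      refine orderOf_eq_prime_pow ?_ ?_
      · rw [show (2 : ℕ) ^ k = 2 * 2 ^ (k - 1) by omega, pow_mul, pow_two, hCC]
        exact hne
      · rw [pow_succ', pow_mul, pow_two, hCC, ← hA, pow_orderOf_eq_one]
    have hdvd := orderOf_dvd_natCard C
    rw [hord, hT, h, pow_succ, Nat.mul_dvd_mul_iff_left (by positivity)] at hdvd
    omega
  have hsquare : IsSquare ((a - 1) / 2) := by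
    by_contra hns
    have hq : Odd (Fintype.card F) := Nat.odd_iff.2 hodd
    obtain ⟨ν, -, hν⟩ := exists_nonsquare hq
    have hmk : ∀ x : F, ¬ IsSquare x → ∀ hx : x ≠ 0, ¬ IsSquare (Units.mk0 x hx) :=
      fun x hx hx0 ⟨s, hs⟩ => hx ⟨s, by simpa using congrArg Units.val hs⟩
    have h1 : (1 + a) / 2 ≠ 0 := fun e => hnot (e ▸ IsSquare.zero)
    have h3 : (a - 1) / 2 ≠ 0 := fun e => hns (e ▸ IsSquare.zero)
    obtain ⟨s, hs⟩ := (hν _ (hmk _ hnot h1)).mul (hν _ (hmk _ hns h3))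
    have hs' := congrArg Units.val hs
    simp only [Units.val_mul, Units.val_inv_eq_inv_val, Units.val_mk0] at hs'
    have hm1 : IsSquare (-1 : F) := by
      refine ⟨(ν : F) * (s : F) * 2 / b, ?_⟩
      have hν0 : (ν : F) ≠ 0 := ν.ne_zero
      field_simp at hs' ⊢
      linear_combination (-1 : F) * hd + hs'
    exact FiniteField.isSquare_neg_one_iff.1 hm1 h4
  obtain ⟨p, hp⟩ := hsquare
  have hp0 : p ≠ 0 := by
    rintro rfl
    rw [mul_zero, div_eq_zero_iff, or_iff_left h2] at hp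
    have : b * b = 0 := by linear_combination hd - (a + 1) * hp
    exact hb0 (mul_self_eq_zero.1 this)
  have hp' : p ^ 2 * 2 = a - 1 := by rw [pow_two, ← hp, div_mul_cancel₀ _ h2]
  set r := b / (2 * p) with hr
  have hpr : p * p + r * r = -1 := by
    rw [hr]
    field_simp
    linear_combination hd + (p ^ 2 * 2 + a + 1) * hp'
  have hrb : 2 * p * r = b := by rw [hr]; field_simp
  have hA00 : a = p * p - r * r := by linear_combination -hp' + hpr
  refine ⟨mk2 (-p) r r p (by linear_combination -hpr), A.1, ?_, ?_, hAk⟩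
  · refine ext_two ?_ ?_ ?_ ?_ <;> simp [mul_val, dSL, Matrix.mul_apply, Fin.sum_univ_two] <;>
      first | linear_combination hpr | ring
  · refine ext_two ?_ ?_ ?_ ?_ <;>
      simp [mul_val, tw_val, Matrix.mul_apply, Fin.sum_univ_two, A.2.1, A.2.2, ← ha, ← hb]
    · linear_combination -hA00
    · linear_combination -hrb
    · linear_combination hrb
    · linear_combination -hA00

/-- The Sylow 2-subgroups of `G₂(q)`, `q` odd, carry a frame. -/
theorem chev_nonempty_frame [Fintype F] (hF : Odd (Fintype.card F))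
    (P : Sylow 2 ↥(Gs F)) : Nonempty (Frame ↥(P : Subgroup ↥(Gs F))) := by
  haveI : Finite ↥(Gs F) := inferInstance
  have hq : Fintype.card F % 2 = 1 := Nat.odd_iff.1 hF
  have hodd := neg_one_ne hF
  have h1 := Fintype.one_lt_card (α := F)
  rcases (show Fintype.card F % 4 = 1 ∨ Fintype.card F % 4 = 3 by omega) with h4 | h4
  · obtain ⟨k, a, ha, hka⟩ : ∃ k a, a % 2 = 1 ∧ Fintype.card F - 1 = 2 ^ k * a := by
      obtain ⟨k, a, ha, hk⟩ := Nat.exists_eq_pow_mul_and_not_dvd (show Fintype.card F - 1 ≠ 0 by omega)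
        2 (by norm_num)
      exact ⟨k, a, by omega, hk⟩
    have hk : 2 ≤ k := by
      by_contra hk
      interval_cases k <;> omega
    obtain ⟨l, hl⟩ := exists_order (C := Fˣ) (k := k) (m := a) (by
      rw [Nat.card_units, Nat.card_eq_fintype_card, hka])
    have hne : l ^ 2 ^ (k - 1) ≠ 1 := fun e => by
      have := orderOf_dvd_of_pow_eq_one e
      rw [hl, Nat.pow_dvd_pow_iff_le_right one_lt_two] at this
      omega
    have hsplit : 2 ^ (k - 1) + 2 ^ (k - 1) = 2 ^ k := by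
      rw [← two_mul, ← pow_succ']; congr 1; omega
    have hl' : l ^ 2 ^ (k - 1) = -1 := by
      have h2 : l ^ 2 ^ (k - 1) * l ^ 2 ^ (k - 1) = 1 := by
        rw [← pow_add, hsplit, ← hl, pow_orderOf_eq_one]
      have h3 := congrArg Units.val h2
      rw [Units.val_mul, Units.val_one] at h3
      rcases mul_self_eq_one_iff.1 h3 with e | e
      · exact absurd (Units.ext (e.trans Units.val_one.symm)) hne
      · exact Units.ext (by rw [e, Units.val_neg, Units.val_one])
    refine Frame.nonempty_sylow (seedOne hodd k hk l (by rw [← hl, pow_orderOf_eq_one]) hl').rel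
      ?_ P
    refine card_factorization hq (a := a) (b := (Fintype.card F + 1) / 2) ha (by omega) ?_
    rw [hka, show Fintype.card F + 1 = 2 * ((Fintype.card F + 1) / 2) by omega]
    show _ = 2 ^ (k + 1) * _
    rw [pow_succ, Nat.mul_div_cancel_left _ two_pos]; ring
  · obtain ⟨k, a, ha, hka⟩ : ∃ k a, a % 2 = 1 ∧ Fintype.card F + 1 = 2 ^ k * a := by
      obtain ⟨k, a, ha, hk⟩ := Nat.exists_eq_pow_mul_and_not_dvd (show Fintype.card F + 1 ≠ 0 by omega)
        2 (by norm_num)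
      exact ⟨k, a, by omega, hk⟩
    have hk : 2 ≤ k := by
      by_contra hk
      interval_cases k <;> omega
    obtain ⟨W, A, hW, hA, hAk⟩ := exists_W h4 hk ha hka
    refine Frame.nonempty_sylow (seedThree hodd k hk W A hW hA hAk).rel ?_ P
    refine card_factorization hq (a := (Fintype.card F - 1) / 2) (b := a) (by omega) ha ?_
    rw [hka, show Fintype.card F - 1 = 2 * ((Fintype.card F - 1) / 2) by omega]
    show _ = 2 ^ (k + 1) * _
    rw [pow_succ, Nat.mul_div_cancel_left _ two_pos]; ring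

end Cfsg.Agent.Grp.GTwoSylow
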