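import Mathlib

/-!
The 2-group `(C_N × C_N) ⋊ V₄` (swap and inversion), the Sylow 2-subgroup shape of `G₂(q)`, `q` odd.
-/

set_option autoImplicit false

namespace Cfsg.Agent.Grp.GTwoSylow

/-- Elements generating `(C_N × C_N) ⋊ ⟨i, s⟩` with `N = 2 ^ k`, `k ≥ 2`, where `i` inverts and `s`
swaps. -/
structure Rel (S : Type*) [Group S] where
  k : ℕ
  hk : 2 ≤ k
  x : S
  y : S
  i : S
  s : S
  xN : x ^ 2 ^ k = 1
  yN : y ^ 2 ^ k = 1
  xy : x * y = y * x
  ii : i * i = 1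
  ss : s * s = 1
  si : s * i = i * s
  ix : i * x = x⁻¹ * i
  iy : i * y = y⁻¹ * i
  sx : s * x = y * s
  sy : s * y = x * s
  indep : ∀ a b : ℕ, x ^ a * y ^ b = 1 → 2 ^ k ∣ a ∧ 2 ^ k ∣ b

/-- A frame exhibiting a group as `(C_N × C_N) ⋊ V₄`. -/
structure Frame (S : Type*) [Group S] extends Rel S where
  card : Nat.card S = 4 * (2 ^ k) ^ 2

namespace Rel

variable {S : Type*} [Group S] (e : Rel S)

/-- The exponent. -/
abbrev N : ℕ := 2 ^ e.k

/-- Half the exponent, as a residue. -/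
def m : ZMod e.N := ((2 ^ (e.k - 1) : ℕ) : ZMod e.N)

/-- The abelian normal part. -/
def pt (a b : ZMod e.N) : S := e.x ^ a.val * e.y ^ b.val

theorem pow_val_add {g : S} (hg : g ^ e.N = 1) (a b : ZMod e.N) :
    g ^ (a + b).val = g ^ a.val * g ^ b.val := by
  rw [← pow_add, ZMod.val_add, ← pow_mod_natCast hg]
where
  pow_mod_natCast {g : S} {n : ℕ} (hg : g ^ n = 1) {j : ℕ} : g ^ j = g ^ (j % n) := by
    conv_lhs => rw [← Nat.mod_add_div j n, pow_add, pow_mul, hg, one_pow, mul_one]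

theorem pt_mul (a b c d : ZMod e.N) : e.pt a b * e.pt c d = e.pt (a + c) (b + d) := by
  have h : Commute e.y e.x := e.xy.symm
  simp only [pt, e.pow_val_add e.xN, e.pow_val_add e.yN, mul_assoc]
  rw [← mul_assoc (e.y ^ b.val), (h.pow_pow b.val c.val).eq, mul_assoc]

theorem pt_mul' (a b c d : ZMod e.N) (g : S) :
    e.pt a b * (e.pt c d * g) = e.pt (a + c) (b + d) * g := by
  rw [← mul_assoc, pt_mul]

theorem pt_zero : e.pt 0 0 = 1 := by simp [pt]

theorem pt_inv (a b : ZMod e.N) : (e.pt a b)⁻¹ = e.pt (-a) (-b) :=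
  inv_eq_of_mul_eq_one_right (by rw [pt_mul]; simp [pt_zero])

theorem pt_eq_one_iff {a b : ZMod e.N} : e.pt a b = 1 ↔ a = 0 ∧ b = 0 := by
  refine ⟨fun h => ?_, fun ⟨ha, hb⟩ => by rw [ha, hb, pt_zero]⟩
  obtain ⟨h1, h2⟩ := e.indep _ _ h
  exact ⟨(ZMod.val_eq_zero _).1 (Nat.eq_zero_of_dvd_of_lt h1 a.val_lt),
    (ZMod.val_eq_zero _).1 (Nat.eq_zero_of_dvd_of_lt h2 b.val_lt)⟩

theorem pt_inj {a b c d : ZMod e.N} : e.pt a b = e.pt c d ↔ a = c ∧ b = d := by
  rw [← mul_inv_eq_one, pt_inv, pt_mul, pt_eq_one_iff, ← sub_eq_add_neg, ← sub_eq_add_neg,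
    sub_eq_zero, sub_eq_zero]

theorem pow_val_neg {g : S} (hg : g ^ e.N = 1) (a : ZMod e.N) : g ^ (-a).val = (g ^ a.val)⁻¹ :=
  eq_inv_of_mul_eq_one_left (by rw [← e.pow_val_add hg]; simp)

theorem i_pt (a b : ZMod e.N) : e.i * e.pt a b = e.pt (-a) (-b) * e.i := by
  have h1 : ∀ n : ℕ, e.i * e.x ^ n = (e.x ^ n)⁻¹ * e.i := fun n => by
    rw [← inv_pow]; exact (SemiconjBy.pow_right (show SemiconjBy e.i e.x e.x⁻¹ from e.ix) n).eq
  have h2 : ∀ n : ℕ, e.i * e.y ^ n = (e.y ^ n)⁻¹ * e.i := fun n => by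
    rw [← inv_pow]; exact (SemiconjBy.pow_right (show SemiconjBy e.i e.y e.y⁻¹ from e.iy) n).eq
  simp only [pt, e.pow_val_neg e.xN, e.pow_val_neg e.yN]
  rw [← mul_assoc, h1, mul_assoc, h2, mul_assoc]

theorem s_pt (a b : ZMod e.N) : e.s * e.pt a b = e.pt b a * e.s := by
  have h1 : ∀ n : ℕ, e.s * e.x ^ n = e.y ^ n * e.s := fun n =>
    (SemiconjBy.pow_right (show SemiconjBy e.s e.x e.y from e.sx) n).eq
  have h2 : ∀ n : ℕ, e.s * e.y ^ n = e.x ^ n * e.s := fun n =>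
    (SemiconjBy.pow_right (show SemiconjBy e.s e.y e.x from e.sy) n).eq
  have h : Commute e.y e.x := e.xy.symm
  simp only [pt]
  rw [← mul_assoc, h1, mul_assoc, h2, ← mul_assoc, (h.pow_pow a.val b.val).eq]

theorem i_pt' (a b : ZMod e.N) (g : S) : e.i * (e.pt a b * g) = e.pt (-a) (-b) * (e.i * g) := by
  rw [← mul_assoc, i_pt, mul_assoc]

theorem s_pt' (a b : ZMod e.N) (g : S) : e.s * (e.pt a b * g) = e.pt b a * (e.s * g) := by
  rw [← mul_assoc, s_pt, mul_assoc]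

theorem ii' (g : S) : e.i * (e.i * g) = g := by rw [← mul_assoc, e.ii, one_mul]

theorem ss' (g : S) : e.s * (e.s * g) = g := by rw [← mul_assoc, e.ss, one_mul]

theorem si' (g : S) : e.s * (e.i * g) = e.i * (e.s * g) := by rw [← mul_assoc, e.si, mul_assoc]

theorem two_eq_zero_iff {a : ZMod e.N} : a + a = 0 ↔ a = 0 ∨ a = e.m := by
  have hN : e.N = 2 * 2 ^ (e.k - 1) := by
    rw [← pow_succ', N]; congr 1; have := e.hk; omega
  constructor
  · intro h
    have h' : ((a.val + a.val : ℕ) : ZMod e.N) = 0 := by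
      rw [Nat.cast_add, ZMod.natCast_zmod_val]; exact h
    rw [ZMod.natCast_eq_zero_iff] at h'
    have hlt := a.val_lt
    obtain ⟨c, hc⟩ := h'
    rcases c with _ | _ | c
    · exact Or.inl ((ZMod.val_eq_zero _).1 (by omega))
    · refine Or.inr ?_
      rw [← ZMod.natCast_zmod_val a, m]
      congr 1
      omega
    · exfalso
      have h2 : e.N * 2 ≤ e.N * (c + 1 + 1) := Nat.mul_le_mul_left _ (by omega)
      omega
  · rintro (rfl | rfl)
    · simp
    · rw [m, ← Nat.cast_add, ← two_mul, ← hN, ZMod.natCast_self]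

theorem m_add_m : e.m + e.m = 0 := e.two_eq_zero_iff.2 (Or.inr rfl)

theorem m_ne_zero : e.m ≠ 0 := by
  rw [m, ne_eq, ZMod.natCast_eq_zero_iff]
  intro h
  have h1 := Nat.le_of_dvd (by positivity) h
  have : 2 ^ (e.k - 1) < 2 ^ e.k := Nat.pow_lt_pow_right (by norm_num) (by have := e.hk; omega)
  simp only [N] at h1
  omega

/-- The parity of a residue. -/
def par : ZMod e.N →+* ZMod 2 :=
  ZMod.castHom (dvd_pow_self 2 (by have := e.hk; omega)) (ZMod 2)

theorem par_m : e.par e.m = 0 := by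
  have := e.hk
  rw [m, map_natCast, ZMod.natCast_eq_zero_iff]
  exact dvd_pow_self 2 (by omega)

theorem parity (a : ZMod e.N) : ∃ c, a = c + c ∨ a = c + c + 1 := by
  refine ⟨((a.val / 2 : ℕ) : ZMod e.N), ?_⟩
  rcases Nat.even_or_odd' a.val with ⟨c, hc | hc⟩
  · left
    rw [hc, Nat.mul_div_cancel_left _ two_pos]
    rw [← ZMod.natCast_zmod_val a, hc]; push_cast; ring
  · right
    rw [hc, show (2 * c + 1) / 2 = c by omega]
    rw [← ZMod.natCast_zmod_val a, hc]; push_cast; ring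

theorem add_self_ne_one (c : ZMod e.N) : c + c ≠ 1 := fun h => by
  have h1 := congrArg e.par h
  rw [map_add, map_one, CharTwo.add_self_eq_zero] at h1
  exact zero_ne_one h1

/-- The central involution. -/
def z : S := e.pt e.m e.m

/-- A non-central involution of the abelian part. -/
def t : S := e.pt e.m 0

/-- The normal form. -/
def nf (a b : ZMod e.N) (p : Bool × Bool) : S :=
  e.pt a b * ((if p.1 then e.i else 1) * if p.2 then e.s else 1)

theorem i_ne : ∀ a b, e.pt a b ≠ e.i := by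
  intro a b h
  have h1 : e.i * e.x = e.x * e.i := by
    have hx : e.x = e.x * e.pt 0 0 := by rw [pt_zero, mul_one]
    rw [← h, pt]
    have hc : Commute (e.x ^ a.val * e.y ^ b.val) e.x :=
      ((Commute.refl e.x).pow_left _).mul_left ((show Commute e.y e.x from e.xy.symm).pow_left _)
    exact hc.eq
  rw [e.ix, mul_right_cancel_iff, inv_eq_iff_mul_eq_one, ← pow_two] at h1
  obtain ⟨h2, -⟩ := e.indep 2 0 (by rw [h1, pow_zero, one_mul])
  have := Nat.le_of_dvd (by norm_num) h2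
  have : 2 ^ 2 ≤ 2 ^ e.k := Nat.pow_le_pow_right two_pos e.hk
  omega

theorem s_ne : ∀ a b, e.pt a b ≠ e.s := by
  intro a b h
  have hc : Commute (e.x ^ a.val * e.y ^ b.val) e.x :=
    ((Commute.refl e.x).pow_left _).mul_left ((show Commute e.y e.x from e.xy.symm).pow_left _)
  have h1 : e.s * e.x = e.x * e.s := by rw [← h]; exact hc.eq
  rw [e.sx, mul_right_cancel_iff] at h1
  obtain ⟨h2, -⟩ := e.indep 1 (2 ^ e.k - 1) (by
    rw [pow_one, ← h1, ← pow_succ', Nat.sub_add_cancel Nat.one_le_two_pow, e.yN])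
  have := Nat.le_of_dvd (by norm_num) h2
  have : 2 ^ 2 ≤ 2 ^ e.k := Nat.pow_le_pow_right two_pos e.hk
  omega

theorem is_ne : ∀ a b, e.pt a b ≠ e.i * e.s := by
  intro a b h
  have hc : Commute (e.x ^ a.val * e.y ^ b.val) e.x :=
    ((Commute.refl e.x).pow_left _).mul_left ((show Commute e.y e.x from e.xy.symm).pow_left _)
  have h1 : e.i * e.s * e.x = e.x * (e.i * e.s) := by rw [← h]; exact hc.eq
  rw [mul_assoc, e.sx, ← mul_assoc, e.iy, mul_assoc, mul_right_cancel_iff] at h1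
  obtain ⟨h2, -⟩ := e.indep 1 1 (by rw [pow_one, pow_one, ← h1, inv_mul_cancel])
  have := Nat.le_of_dvd (by norm_num) h2
  have : 2 ^ 2 ≤ 2 ^ e.k := Nat.pow_le_pow_right two_pos e.hk
  omega

theorem nf_inj : Function.Injective fun v : (ZMod e.N × ZMod e.N) × (Bool × Bool) =>
    e.nf v.1.1 v.1.2 v.2 := by
  rintro ⟨⟨a, b⟩, p, r⟩ ⟨⟨c, d⟩, p', r'⟩ h
  simp only [nf] at h
  have h' : e.pt (a - c) (b - d) = ((if p' then e.i else 1) * if r' then e.s else 1) *
      ((if p then e.i else 1) * if r then e.s else 1)⁻¹ := by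
    rw [eq_mul_inv_iff_mul_eq, sub_eq_add_neg, sub_eq_add_neg, add_comm a, add_comm b, ← pt_mul,
      mul_assoc, h, ← mul_assoc, pt_mul]
    simp [pt_zero]
  have hi : e.i⁻¹ = e.i := inv_eq_of_mul_eq_one_left e.ii
  have hs : e.s⁻¹ = e.s := inv_eq_of_mul_eq_one_left e.ss
  have key : p = p' ∧ r = r' := by
    rcases p <;> rcases r <;> rcases p' <;> rcases r' <;>
      simp [hi, hs, e.ii, e.ss, e.si, e.si', e.ii', e.ss', mul_assoc] at h' ⊢
    all_goals first
      | exact e.i_ne _ _ h' | exact e.s_ne _ _ h' | exact e.is_ne _ _ h'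
  obtain ⟨rfl, rfl⟩ := key
  rw [mul_left_inj, pt_inj] at h
  rw [h.1, h.2]

theorem nf_mul (a b c d : ZMod e.N) (p q : Bool × Bool) :
    ∃ a' b', e.nf a b p * e.nf c d q = e.nf a' b' (xor p.1 q.1, xor p.2 q.2) := by
  obtain ⟨p, r⟩ := p
  obtain ⟨p', r'⟩ := q
  rcases p <;> rcases r <;> rcases p' <;> rcases r' <;>
    simp [nf, e.i_pt', e.s_pt', e.ii, e.ss, e.si, e.ii', e.ss', e.si', e.pt_mul',
      e.pt_mul, e.i_pt, e.s_pt, mul_assoc] <;>
    exact ⟨_, _, rfl⟩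

end Rel

namespace Frame

open Rel

variable {S : Type*} [Group S] (e : Frame S)

theorem nf_surj (g : S) : ∃ a b p, e.nf a b p = g := by
  haveI : Finite S := Nat.finite_of_card_ne_zero (by rw [e.card]; positivity)
  have hb := (Nat.bijective_iff_injective_and_card
    fun v : (ZMod e.N × ZMod e.N) × (Bool × Bool) => e.nf v.1.1 v.1.2 v.2).2 ⟨e.nf_inj, by
      rw [e.card]; simp [Nat.card_prod, Nat.card_zmod, N]; ring⟩
  obtain ⟨⟨⟨a, b⟩, p⟩, h⟩ := hb.2 g
  exact ⟨a, b, p, h⟩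

/-- The four cosets of the abelian part. -/
theorem cases4 (g : S) : ∃ a b, g = e.pt a b ∨ g = e.pt a b * e.i ∨ g = e.pt a b * e.s ∨
    g = e.pt a b * (e.i * e.s) := by
  obtain ⟨a, b, ⟨p, r⟩, rfl⟩ := e.nf_surj g
  exact ⟨a, b, by rcases p <;> rcases r <;> simp [nf]⟩

/-- The inverse of the normal form. -/
noncomputable def coord : S ≃ (ZMod e.N × ZMod e.N) × (Bool × Bool) :=
  (Equiv.ofBijective (fun v : (ZMod e.N × ZMod e.N) × (Bool × Bool) => e.nf v.1.1 v.1.2 v.2)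
    ⟨e.nf_inj, fun g => by obtain ⟨a, b, p, h⟩ := e.nf_surj g; exact ⟨((a, b), p), h⟩⟩).symm

theorem coord_nf (a b : ZMod e.N) (p : Bool × Bool) : (e.coord (e.nf a b p)).2 = p := by
  rw [show e.coord (e.nf a b p) = ((a, b), p) from
    (Equiv.ofBijective _ _).symm_apply_apply ((a, b), p)]

/-- A bit as an element of the group of order two. -/
def bit (p : Bool) : Multiplicative (ZMod 2) := Multiplicative.ofAdd (if p then 1 else 0)

theorem bit_xor (p q : Bool) : bit (xor p q) = bit p * bit q := by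
  revert p q; decide

/-- The quotient map onto the four group. -/
noncomputable def cls : S →* Multiplicative (ZMod 2) × Multiplicative (ZMod 2) where
  toFun g := (bit (e.coord g).2.1, bit (e.coord g).2.2)
  map_one' := by
    rw [show (1 : S) = e.nf 0 0 (false, false) by simp [nf, pt_zero], coord_nf]
    rfl
  map_mul' g h := by
    obtain ⟨a, b, p, rfl⟩ := e.nf_surj g
    obtain ⟨c, d, q, rfl⟩ := e.nf_surj h
    obtain ⟨a', b', hab⟩ := e.nf_mul a b c d p q
    rw [hab, coord_nf, coord_nf, coord_nf, Prod.mk_mul_mk, bit_xor, bit_xor]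

theorem cls_nf (a b : ZMod e.N) (p : Bool × Bool) : e.cls (e.nf a b p) = (bit p.1, bit p.2) := by
  show (bit (e.coord _).2.1, bit (e.coord _).2.2) = _
  rw [coord_nf]

theorem cls_pt (a b : ZMod e.N) : e.cls (e.pt a b) = (bit false, bit false) := by
  rw [show e.pt a b = e.nf a b (false, false) by simp [nf], cls_nf]

theorem cls_i (a b : ZMod e.N) : e.cls (e.pt a b * e.i) = (bit true, bit false) := by
  rw [show e.pt a b * e.i = e.nf a b (true, false) by simp [nf], cls_nf]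

theorem cls_s (a b : ZMod e.N) : e.cls (e.pt a b * e.s) = (bit false, bit true) := by
  rw [show e.pt a b * e.s = e.nf a b (false, true) by simp [nf], cls_nf]

theorem cls_is (a b : ZMod e.N) : e.cls (e.pt a b * (e.i * e.s)) = (bit true, bit true) := by
  rw [show e.pt a b * (e.i * e.s) = e.nf a b (true, true) by simp [nf], cls_nf]

theorem pt_ne_i (a b c d : ZMod e.N) : e.pt a b ≠ e.pt c d * e.i := fun h => by
  have := congrArg e.cls h
  rw [cls_pt, cls_i] at this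
  exact absurd this (by decide)

theorem pt_ne_s (a b c d : ZMod e.N) : e.pt a b ≠ e.pt c d * e.s := fun h => by
  have := congrArg e.cls h
  rw [cls_pt, cls_s] at this
  exact absurd this (by decide)

theorem pt_ne_is (a b c d : ZMod e.N) : e.pt a b ≠ e.pt c d * (e.i * e.s) := fun h => by
  have := congrArg e.cls h
  rw [cls_pt, cls_is] at this
  exact absurd this (by decide)

theorem z_ne_one : e.z ≠ 1 := fun h => e.m_ne_zero (e.pt_eq_one_iff.1 h).1

theorem t_ne_one : e.t ≠ 1 := fun h => e.m_ne_zero (e.pt_eq_one_iff.1 h).1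

theorem z_central (g : S) : g * e.z = e.z * g := by
  have hm : -e.m = e.m := neg_eq_of_add_eq_zero_left e.m_add_m
  obtain ⟨a, b, rfl | rfl | rfl | rfl⟩ := e.cases4 g <;>
    simp [z, mul_assoc, e.i_pt, e.s_pt, e.i_pt', e.s_pt', hm, e.pt_mul, e.pt_mul', add_comm]

theorem conj_pt (c d a b : ZMod e.N) : e.pt c d * e.pt a b * (e.pt c d)⁻¹ = e.pt a b := by
  rw [pt_inv, pt_mul, pt_mul]; simp

theorem conj_i (c d a b : ZMod e.N) :
    e.pt c d * (e.pt a b * e.i) * (e.pt c d)⁻¹ = e.pt (a + (c + c)) (b + (d + d)) * e.i := by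
  rw [pt_inv, mul_assoc, mul_assoc, i_pt, pt_mul', pt_mul']
  simp [add_comm, add_left_comm]

/-- Every involution is conjugate to a representative. -/
theorem involution_cases {g : S} (hg : g * g = 1) (hg1 : g ≠ 1) : ∃ h : S,
    h * g * h⁻¹ = e.z ∨ h * g * h⁻¹ = e.t ∨ h * g * h⁻¹ = e.i ∨ h * g * h⁻¹ = e.pt 1 1 * e.i ∨
    h * g * h⁻¹ = e.pt 1 0 * e.i ∨ h * g * h⁻¹ = e.s ∨ h * g * h⁻¹ = e.i * e.s := by
  have hsinv : e.s⁻¹ = e.s := inv_eq_of_mul_eq_one_left e.ss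
  obtain ⟨a, b, rfl | rfl | rfl | rfl⟩ := e.cases4 g
  · rw [pt_mul, pt_eq_one_iff, two_eq_zero_iff, two_eq_zero_iff] at hg
    obtain ⟨rfl | rfl, rfl | rfl⟩ := hg
    · exact absurd e.pt_zero hg1
    · refine ⟨e.s, Or.inr (Or.inl ?_)⟩
      rw [hsinv, s_pt, mul_assoc, e.ss, mul_one]; rfl
    · exact ⟨1, Or.inr (Or.inl (by simp [t]))⟩
    · exact ⟨1, Or.inl (by simp [z])⟩
  · obtain ⟨c, hc⟩ := e.parity a
    obtain ⟨d, hd⟩ := e.parity b
    rcases hc with rfl | rfl <;> rcases hd with rfl | rfl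
    · refine ⟨e.pt (-c) (-d), Or.inr (Or.inr (Or.inl ?_))⟩
      rw [conj_i]
      simp [add_left_comm, pt_zero]
    · refine ⟨e.s * e.pt (-c) (-d), Or.inr (Or.inr (Or.inr (Or.inr (Or.inl ?_))))⟩
      rw [show e.s * e.pt (-c) (-d) * (e.pt (c + c) (d + d + 1) * e.i) * (e.s * e.pt (-c) (-d))⁻¹ =
        e.s * (e.pt (-c) (-d) * (e.pt (c + c) (d + d + 1) * e.i) * (e.pt (-c) (-d))⁻¹) * e.s⁻¹ by
          group, conj_i, hsinv, s_pt', mul_assoc, mul_assoc, ← e.si, ← mul_assoc e.s, e.ss, one_mul]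
      congr 2 <;> abel
    · refine ⟨e.pt (-c) (-d), Or.inr (Or.inr (Or.inr (Or.inr (Or.inl ?_))))⟩
      rw [conj_i]
      congr 2 <;> abel
    · refine ⟨e.pt (-c) (-d), Or.inr (Or.inr (Or.inr (Or.inl ?_)))⟩
      rw [conj_i]
      congr 2 <;> abel
  · rw [mul_assoc, s_pt', e.ss, mul_one, pt_mul, pt_eq_one_iff] at hg
    refine ⟨e.pt (-a) 0, Or.inr (Or.inr (Or.inr (Or.inr (Or.inr (Or.inl ?_)))))⟩
    rw [pt_inv, mul_assoc, mul_assoc, s_pt, pt_mul', pt_mul']
    rw [show -a + a + -0 = 0 by abel, show 0 + b + - -a = 0 by rw [zero_add, neg_neg, hg.2], pt_zero,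
      one_mul]
  · rw [mul_assoc, mul_assoc, s_pt', i_pt', e.si', e.ii', e.ss, mul_one, pt_mul,
      pt_eq_one_iff, add_neg_eq_zero, add_neg_eq_zero] at hg
    refine ⟨e.pt (-a) 0, Or.inr (Or.inr (Or.inr (Or.inr (Or.inr (Or.inr ?_)))))⟩
    rw [pt_inv, mul_assoc, mul_assoc, mul_assoc, s_pt, i_pt', pt_mul', pt_mul']
    rw [show -a + a + - -0 = 0 by abel, show 0 + b + - - -a = 0 by rw [hg.2]; abel, pt_zero,
      one_mul]

theorem sq_mem (g : S) : ∃ a b, g * g = e.pt a b := by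
  obtain ⟨a, b, rfl | rfl | rfl | rfl⟩ := e.cases4 g <;>
    simp [mul_assoc, e.i_pt', e.s_pt', e.ii, e.ss, e.si', e.pt_mul, e.ii', e.i_pt, e.s_pt] <;>
    exact ⟨_, _, rfl⟩

end Frame

end Cfsg.Agent.Grp.GTwoSylow
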